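import Cfsg.Agent.H609.TH.Count

/-!
# S3938: elements with a unique maximal overgroup (helper609)

`T` simple, `r ∥ |T|`, `Free r T`, `s` of order `r`.

* `uniq_of_none` : there is no simple group at the top: `Uniq T`;
* `uniq_of_unique` : there is only one simple group `N` at the top: `Uniq T`;
* `uniq_of_ltwo` : only `L₂(r)` at the top and `|C(a)| < r - 1` for `a` of order `(r - 1) / 2` which is inverted by some `t`.
-/

set_option autoImplicit false

namespace Cfsg.Agent.H609.TH

open Subgroup Cfsg.Agent.OrdDiv Cfsg.Agent.H257.El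

universe u

variable {T : Type u} [Group T] [Finite T] {r : ℕ} {n : ℕ} {l : List (ℕ × ℕ)}

omit [Finite T] in
/-- the normaliser of a non-trivial proper subgroup of a simple group is proper -/
theorem normalizer_ne_top [hT : IsSimpleGroup T] {M : Subgroup T} (h1 : M ≠ ⊥) (h2 : M ≠ ⊤) :
    normalizer (M : Set T) ≠ ⊤ := by
  intro h
  have hn : M.Normal := normalizer_eq_top_iff.1 h
  rcases hT.eq_bot_or_eq_top_of_normal M hn with h3 | h3
  · exact h1 h3
  · exact h2 h3

theorem exists_of_order (hr : r.Prime) (hrn : r ∣ Nat.card T) : ∃ s : T, orderOf s = r := by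
  have hr' : Fact r.Prime := ⟨hr⟩
  exact exists_prime_orderOf_dvd_card' r hrn

/-- `⟨s⟩` is a proper non-trivial subgroup -/
theorem zpowers_ne (hr : r.Prime) (hne : Nat.card T ≠ r) {s : T} (hs : orderOf s = r) :
    zpowers s ≠ ⊥ ∧ zpowers s ≠ ⊤ := by
  constructor
  · intro h
    rw [zpowers_eq_bot] at h
    rw [h, orderOf_one] at hs
    exact hr.one_lt.ne hs
  · intro h
    apply hne
    rw [← hs, ← Nat.card_zpowers, h, card_top]

/-- **No simple group at the top.** -/
theorem uniq_of_none [IsSimpleGroup T] (tab : OrderTable.{u}) (known : Known.{u}) (hn : Nat.card T = n)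
    (hv : valid l n = true) (hr : r.Prime) (h2 : ¬ r ^ 2 ∣ n) (hne : n ≠ r) (hfree : Free r T) {s : T}
    (hs : orderOf s = r) (hno : ∀ K N : Subgroup T, K ≠ ⊤ → s ∈ K → ¬ IsTop T n l r s K N) : Uniq T := by
  obtain ⟨h3, h4⟩ := zpowers_ne hr (by rwa [hn]) hs
  refine ⟨s, ?_, normalizer ((zpowers s : Subgroup T) : Set T), normalizer_ne_top h3 h4, fun K hsK hK => ?_⟩
  · rintro rfl
    rw [orderOf_one] at hs
    exact hr.one_lt.ne hs
  · rcases cases tab known hn hv hr h2 hfree hs hK hsK with h | ⟨N, hN⟩
    · exact h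
    · exact absurd hN (hno K N hK hsK)

omit [Finite T] in
theorem IsTop.ne_bot {s : T} {K N : Subgroup T} (h : IsTop T n l r s K N) : N ≠ ⊥ := by
  rintro rfl
  apply h.nonab
  intro a b
  exact Subsingleton.elim _ _

theorem IsTop.ne_top {s : T} {K N : Subgroup T} (h : IsTop T n l r s K N) (hK : K ≠ ⊤) : N ≠ ⊤ := by
  rintro rfl
  exact hK (top_le_iff.1 h.le)

/-- **One simple group at the top.** -/
theorem uniq_of_unique [IsSimpleGroup T] (tab : OrderTable.{u}) (known : Known.{u}) (hn : Nat.card T = n)
    (hv : valid l n = true) (hr : r.Prime) (h2 : ¬ r ^ 2 ∣ n) (hne : n ≠ r) (hfree : Free r T) {s : T}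
    (hs : orderOf s = r) (huniq : ∀ K N K' N' : Subgroup T, K ≠ ⊤ → K' ≠ ⊤ → IsTop T n l r s K N →
      IsTop T n l r s K' N' → N = N') : Uniq T := by
  by_cases hex : ∃ K N : Subgroup T, K ≠ ⊤ ∧ IsTop T n l r s K N
  · obtain ⟨K₀, N, hK₀, hN⟩ := hex
    set M := normalizer (N : Set T) with hM
    have hsN : s ∈ N := hN.mem
    have hNM : N ≤ M := le_normalizer
    have hMtop : M ≠ ⊤ := normalizer_ne_top hN.ne_bot (hN.ne_top hK₀)
    have hMbot : M ≠ ⊥ := fun h => hN.ne_bot (by rw [eq_bot_iff, ← h]; exact hNM)
    -- conjugates of `M` by the elements normalising `⟨s⟩`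
    have key : ∀ b ∈ normalizer ((zpowers s : Subgroup T) : Set T), b ∈ normalizer (M : Set T) := by
      intro b hb
      set K' := M.map (MulAut.conj b).toMonoidHom with hK'
      have hsK' : s ∈ K' := by
        have h3 : b⁻¹ * s * b ∈ zpowers s := by
          have h4 := (mem_normalizer_iff.1 (inv_mem hb) s).1 (mem_zpowers s)
          rwa [inv_inv] at h4
        have h5 : zpowers s ≤ M := by rw [zpowers_le]; exact hNM hsN
        refine ⟨b⁻¹ * s * b, h5 h3, ?_⟩
        change b * (b⁻¹ * s * b) * b⁻¹ = s
        group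
      have hK'top : K' ≠ ⊤ := by
        intro h
        apply hMtop
        refine eq_top_of_card_eq M ?_
        rw [← card_top (G := T), ← h, hK', card_map_of_injective (MulAut.conj b).injective]
      have hle : K' ≤ M := by
        rcases cases tab known hn hv hr h2 hfree hs hK'top hsK' with h | ⟨N', hN'⟩
        · -- `b N b⁻¹` would normalise `⟨s⟩`
          exfalso
          set N'' := N.map (MulAut.conj b).toMonoidHom with hN''
          have h3 : N'' ≤ K' := map_mono hNM
          have h4 : s ∈ N'' := by
            have h5 : b⁻¹ * s * b ∈ zpowers s := by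
              have h6 := (mem_normalizer_iff.1 (inv_mem hb) s).1 (mem_zpowers s)
              rwa [inv_inv] at h6
            have h6 : zpowers s ≤ N := by rw [zpowers_le]; exact hsN
            refine ⟨b⁻¹ * s * b, h6 h5, ?_⟩
            change b * (b⁻¹ * s * b) * b⁻¹ = s
            group
          let e : N ≃* N'' := N.equivMapOfInjective _ (MulAut.conj b).injective
          have hsim := hN.simple
          have : Nontrivial N'' := e.symm.toEquiv.nontrivial
          have hsim' : IsSimpleGroup N'' := IsSimpleGroup.isSimpleGroup_of_surjective e.toMonoidHom e.surjective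
          have hnn : ((zpowers s).subgroupOf N'').Normal := ⟨fun y hy z => by
            rw [mem_subgroupOf] at hy ⊢
            exact (mem_normalizer_iff.1 (h (h3 z.2)) _).1 hy⟩
          rcases hsim'.eq_bot_or_eq_top_of_normal _ hnn with h5 | h5
          · have h6 : (⟨s, h4⟩ : N'') ∈ (zpowers s).subgroupOf N'' := mem_subgroupOf.2 (mem_zpowers s)
            rw [h5, mem_bot] at h6
            have h7 : s = 1 := congrArg Subtype.val h6
            rw [h7, orderOf_one] at hs
            exact hr.one_lt.ne hs
          · have h6 : N'' ≤ zpowers s := subgroupOf_eq_top.1 h5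
            apply hN.nonab
            intro x y
            apply e.injective
            rw [map_mul, map_mul]
            apply Subtype.ext
            obtain ⟨i, hi⟩ := mem_zpowers_iff.1 (h6 (e x).2)
            obtain ⟨j, hj⟩ := mem_zpowers_iff.1 (h6 (e y).2)
            change ((e x : N'') : T) * (e y : N'') = (e y : N'') * (e x : N'')
            rw [← hi, ← hj, ← zpow_add, ← zpow_add, add_comm]
        · have h3 := huniq K₀ N K' N' hK₀ hK'top hN hN'
          rw [hM, h3]
          exact hN'.le_norm
      have heq : K' = M := eq_of_le_of_card_ge hle (by rw [hK', card_map_of_injective (MulAut.conj b).injective])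
      rw [mem_normalizer_iff]
      intro y
      constructor
      · intro hy
        rw [← heq]
        exact ⟨y, hy, rfl⟩
      · intro hy
        rw [← heq] at hy
        obtain ⟨z, hz, hzy⟩ := hy
        have : z = y := (MulAut.conj b).injective hzy
        rwa [← this]
    refine ⟨s, ?_, normalizer (M : Set T), normalizer_ne_top hMbot hMtop, fun K hsK hK => ?_⟩
    · rintro rfl
      rw [orderOf_one] at hs
      exact hr.one_lt.ne hs
    · rcases cases tab known hn hv hr h2 hfree hs hK hsK with h | ⟨N', hN'⟩
      · exact fun y hy => key y (h hy)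
      · have h3 := huniq K₀ N K N' hK₀ hK hN hN'
        have h4 : K ≤ M := by
          rw [hM, h3]
          exact hN'.le_norm
        exact h4.trans le_normalizer
  · refine uniq_of_none tab known hn hv hr h2 hne hfree hs fun K N hK _ hN => hex ⟨K, N, hK, hN⟩

/-- **Only `L₂(r)` at the top, at most one.** -/
theorem uniq_of_ltwo [IsSimpleGroup T] (tab : OrderTable.{u}) (known : Known.{u}) (hn : Nat.card T = n)
    (hv : valid l n = true) (hr : r.Prime) (hr3 : 3 < r) (hrn : r ∣ n) (h2 : ¬ r ^ 2 ∣ n) (hne : n ≠ r)
    (hfree : Free r T) (hsc : Cfsg.Agent.H537.Cop.SC r T) (hsurv : ∀ g ∈ surv n l r [], g = Grp.psl 2 r)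
    (hc : ∀ a t : T, orderOf a = (r - 1) / 2 → t * a * t⁻¹ = a⁻¹ →
      Nat.card (centralizer ({a} : Set T)) < 2 * ((r - 1) / 2)) : Uniq T := by
  classical
  obtain ⟨s, hs⟩ := exists_of_order (T := T) hr (by rw [hn]; exact hrn)
  refine uniq_of_unique tab known hn hv hr h2 hne hfree hs fun K N K' N' hK hK' hN hN' => ?_
  have hL : ∀ {K N : Subgroup T}, IsTop T n l r s K N → IsLTwo r s N := by
    intro K N hN
    obtain ⟨g, hg, hgr, -⟩ := hN.real
    rw [hsurv g hg] at hgr
    exact ⟨hN.mem, hgr⟩
  by_contra hne'
  rcases ltwo_count hr hr3 (by rwa [hn]) hsc hs (NN := {N, N'}) (fun X hX => by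
    rcases Finset.mem_insert.1 hX with rfl | hX
    · exact hL hN
    · rw [Finset.mem_singleton.1 hX]
      exact hL hN') with h | ⟨a, t, ha, -, ht, h⟩
  · exact absurd h (Finset.insert_ne_empty _ _)
  · rw [Finset.card_pair hne'] at h
    exact absurd (hc a t ha ht) (by omega)

end Cfsg.Agent.H609.TH
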