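import Cfsg.Agent.H424.Spr.Two
import Cfsg.Agent.H609.TH.UniqTop

/-!
# S3938: `Spr T` from the criteria of `TH` (helper609)

* `spr_of_uniq` : one maximal overgroup;
* `spr_of_prime` : automorphisms of prime order;
* `spr_of_parts`, `spr_of_inner`, `spr_of_out_two` : inner and outer automorphisms separately;
* `spr_of_ltwo_count`, `spr_of_ltwo_one` : only `L₂(r)` at the top (numerical).
-/

set_option autoImplicit false

namespace Cfsg.Agent.H609.TH

open Subgroup Cfsg.Agent.OrdDiv Cfsg.Agent.H257.El Cfsg.Agent.H424.Spr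

universe u

section

variable {T : Type u} [Group T] [Finite T] [IsSimpleGroup T]

/-- **One maximal overgroup.** -/
theorem spr_of_uniq (hna : ∃ x y : T, x * y ≠ y * x) (h : Uniq T) : Spr T := by
  obtain ⟨s, -, M, hM, hK⟩ := h
  exact spr_of_one hna hM hK

/-- an inner automorphism -/
theorem goodA_of_goodI (hna : ∃ x y : T, x * y ≠ y * x) {g : T} (h : GoodI g) : GoodA (MulAut.conj g) := by
  obtain ⟨x, hx⟩ := h
  refine ⟨x, fun K hxK hK => ?_⟩
  have hg : g ∈ normalizer (K : Set T) := by
    have h1 : K.map (MulAut.conj g).toMonoidHom = K := by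
      refine eq_of_le_of_card_ge ?_ (by rw [card_map_of_injective (MulAut.conj g).injective])
      rintro _ ⟨y, hy, rfl⟩
      exact hK y hy
    rw [mem_normalizer_iff]
    intro y
    constructor
    · exact hK y
    · intro hy
      rw [← h1] at hy
      obtain ⟨z, hz, hzy⟩ := hy
      have : z = y := (MulAut.conj g).injective hzy
      rwa [← this]
  have hn : normalizer (K : Set T) = ⊤ := by
    rw [eq_top_iff, ← hx, closure_le]
    rintro y (rfl | rfl)
    · exact le_normalizer hxK
    · exact hg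
  rcases IsSimpleGroup.eq_bot_or_eq_top_of_normal K (normalizer_eq_top_iff.1 hn) with h1 | h1
  · exfalso
    rw [h1, mem_bot] at hxK
    subst hxK
    obtain ⟨a, b, hab⟩ := hna
    have h2 : ∀ y : T, y ∈ zpowers g := by
      intro y
      have h3 : y ∈ closure ({1, g} : Set T) := by rw [hx]; exact mem_top _
      have h4 : closure ({1, g} : Set T) ≤ zpowers g := by
        rw [closure_le]
        rintro z (rfl | rfl)
        · exact one_mem _
        · exact mem_zpowers _
      exact h4 h3
    obtain ⟨i, rfl⟩ := mem_zpowers_iff.1 (h2 a)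
    obtain ⟨j, rfl⟩ := mem_zpowers_iff.1 (h2 b)
    apply hab
    rw [← zpow_add, ← zpow_add, add_comm]
  · exact h1

omit [IsSimpleGroup T] in
/-- it is enough to consider automorphisms of prime order -/
theorem spr_of_prime (h : ∀ a : MulAut T, (orderOf a).Prime → GoodA a) : Spr T := by
  intro a ha
  have hfin : Finite (MulAut T) := by
    have : Finite (T → T) := inferInstance
    exact Finite.of_injective (fun φ : MulAut T => (φ : T → T)) fun φ ψ h => MulEquiv.ext (congrFun h)
  have h1 : orderOf a ≠ 1 := fun h => ha (orderOf_eq_one_iff.1 h)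
  obtain ⟨p, hp, k, hk⟩ := Nat.exists_prime_and_dvd h1
  have hk0 : k ≠ 0 := by
    rintro rfl
    rw [mul_zero] at hk
    exact (orderOf_pos a).ne' hk
  obtain ⟨x, hx⟩ := h (a ^ k) (by
    rw [orderOf_pow_of_dvd hk0 (by rw [hk]; exact dvd_mul_left _ _), hk, Nat.mul_div_cancel _ (Nat.pos_of_ne_zero hk0)]
    exact hp)
  refine ⟨x, fun K hxK hK => hx K hxK ?_⟩
  have h2 : ∀ i : ℕ, ∀ y ∈ K, (a ^ i) y ∈ K := by
    intro i
    induction i with
    | zero => intro y hy; simpa using hy
    | succ i ih =>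
      intro y hy
      rw [pow_succ, MulAut.mul_apply]
      exact ih _ (hK y hy)
  exact h2 k

/-- inner and outer automorphisms -/
theorem spr_of_parts (hna : ∃ x y : T, x * y ≠ y * x) (hI : ∀ g : T, (orderOf g).Prime → GoodI g)
    (hO : ∀ a : MulAut T, (orderOf a).Prime → (∀ g : T, a ≠ MulAut.conj g) → GoodA a) : Spr T := by
  refine spr_of_prime fun a ha => ?_
  by_cases h : ∃ g : T, a = MulAut.conj g
  · obtain ⟨g, rfl⟩ := h
    refine goodA_of_goodI hna (hI g ?_)
    -- the centre is trivial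
    have hinj : Function.Injective (MulAut.conj : T →* MulAut T) := by
      rw [injective_iff_map_eq_one]
      intro z hz
      have hz' : z ∈ center T := by
        rw [mem_center_iff]
        intro y
        have h1 : MulAut.conj z y = y := by rw [hz]; rfl
        rw [MulAut.conj_apply] at h1
        calc y * z = z * y * z⁻¹ * z := by rw [h1]
          _ = z * y := by group
      rcases IsSimpleGroup.eq_bot_or_eq_top_of_normal (center T) inferInstance with h1 | h1
      · rwa [h1, mem_bot] at hz'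
      · obtain ⟨x, y, hxy⟩ := hna
        have h2 : y ∈ center T := by rw [h1]; exact mem_top _
        exact absurd (mem_center_iff.1 h2 x) hxy
    rwa [orderOf_injective _ hinj] at ha
  · exact hO a ha fun g hg => h ⟨g, hg⟩

/-- all the automorphisms are inner -/
theorem spr_of_inner (hna : ∃ x y : T, x * y ≠ y * x) (hI : ∀ g : T, (orderOf g).Prime → GoodI g)
    (hout : ∀ a : MulAut T, ∃ g : T, a = MulAut.conj g) : Spr T :=
  spr_of_parts hna hI fun a _ h => absurd (hout a) fun ⟨g, hg⟩ => h g hg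

/-- the outer automorphisms are of order two modulo the inner ones -/
theorem spr_of_out_two (hna : ∃ x y : T, x * y ≠ y * x) (hI : ∀ g : T, (orderOf g).Prime → GoodI g)
    (hout : ∀ a : MulAut T, ∃ g : T, a * a = MulAut.conj g)
    (hO : ∀ a : MulAut T, orderOf a = 2 → (∀ g : T, a ≠ MulAut.conj g) → GoodA a) : Spr T := by
  refine spr_of_parts hna hI fun a ha hne => ?_
  by_cases h2 : orderOf a = 2
  · exact hO a h2 hne
  · exfalso
    have hodd : Odd (orderOf a) := ha.odd_of_ne_two h2
    obtain ⟨k, hk⟩ := hodd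
    obtain ⟨g, hg⟩ := hout a
    apply hne (g ^ (k + 1))
    rw [map_pow, ← hg]
    have h1 := pow_orderOf_eq_one a
    rw [hk] at h1
    calc a = a ^ (2 * k + 1) * a := by rw [h1, one_mul]
      _ = (a * a) ^ (k + 1) := by
          rw [← pow_two, ← pow_mul, ← pow_succ]
          congr 1

omit [Finite T] in
/-- a simple group of non-prime order is not commutative -/
theorem exists_not_comm {n : ℕ} (hn : Nat.card T = n) (hp : ¬ n.Prime) : ∃ x y : T, x * y ≠ y * x := by
  by_contra h
  push Not at h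
  apply hp
  rw [← hn]
  let _ : CommGroup T := { (inferInstance : Group T) with mul_comm := h }
  exact IsSimpleGroup.prime_card

end

/-! ### Numerical criteria -/

section

variable {T : Type u} [Group T] [Finite T] [IsSimpleGroup T] {r n : ℕ} {l : List (ℕ × ℕ)}

/-- the check of the numerical hypotheses -/
def chkN (n : ℕ) (l : List (ℕ × ℕ)) (r : ℕ) : Bool :=
  valid l n && Nat.blt 3 r && (n % r == 0) && (n % r ^ 2 != 0) && (n != r)

theorem of_chkN (h : chkN n l r = true) : valid l n = true ∧ 3 < r ∧ r ∣ n ∧ ¬ r ^ 2 ∣ n ∧ n ≠ r := by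
  unfold chkN at h
  simp only [Bool.and_eq_true] at h
  obtain ⟨⟨⟨⟨h1, h2⟩, h3⟩, h4⟩, h5⟩ := h
  refine ⟨h1, by simpa [Nat.blt_eq] using h2, Nat.dvd_of_mod_eq_zero (by simpa using h3), fun h => ?_, by simpa using h5⟩
  rw [Nat.mod_eq_zero_of_dvd h] at h4
  exact absurd h4 (by decide)

/-- **No simple group at the top** (numerical). -/
theorem spr_of_empty (tab : OrderTable.{u}) (known : Known.{u}) (hna : ∃ x y : T, x * y ≠ y * x) (hn : Nat.card T = n)
    (hr : r.Prime) (hchk : chkN n l r = true) (hfree : Free r T) (hsurv : surv n l r [] = []) : Spr T := by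
  obtain ⟨hv, -, hrn, h2, hne⟩ := of_chkN hchk
  obtain ⟨s, hs⟩ := exists_of_order (T := T) hr (by rw [hn]; exact hrn)
  refine spr_of_uniq hna (uniq_of_none tab known hn hv hr h2 hne hfree hs fun K N _ _ hN => ?_)
  obtain ⟨g, hg, -⟩ := hN.real
  rw [hsurv] at hg
  exact absurd hg List.not_mem_nil

/-- **Only `L₂(r)` at the top, but `(r - 1) / 2` does not divide `|N(⟨s⟩) : ⟨s⟩|`** (numerical). -/
theorem spr_of_ltwo_mod (tab : OrderTable.{u}) (known : Known.{u}) (hna : ∃ x y : T, x * y ≠ y * x)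
    (hn : Nat.card T = n) (hr : r.Prime) (hchk : chkN n l r = true) (hfree : Free r T)
    (hsc : Cfsg.Agent.H537.Cop.SC r T) (hsurv : ∀ g ∈ surv n l r [], g = Grp.psl 2 r)
    (hmod : ¬ (r - 1) / 2 ∣ (n / r) % r) : Spr T := by
  obtain ⟨hv, hr3, hrn, h2, hne⟩ := of_chkN hchk
  obtain ⟨s, hs⟩ := exists_of_order (T := T) hr (by rw [hn]; exact hrn)
  refine spr_of_uniq hna (uniq_of_none tab known hn hv hr h2 hne hfree hs fun K N _ _ hN => hmod ?_)
  obtain ⟨g, hg, hgr, -⟩ := hN.real
  rw [hsurv g hg] at hgr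
  have h3 : IsLTwo r s N := ⟨hN.mem, hgr⟩
  have h4 := h3.dvd hr hr3 (by rwa [hn]) hsc hs
  rwa [hn] at h4

/-- **Only `L₂(r)` at the top, at most one** (`|C(a)| < r - 1` for `a` of order `(r - 1) / 2` inverted by some `t`). -/
theorem spr_of_ltwo_one (tab : OrderTable.{u}) (known : Known.{u}) (hna : ∃ x y : T, x * y ≠ y * x)
    (hn : Nat.card T = n) (hr : r.Prime) (hchk : chkN n l r = true) (hfree : Free r T)
    (hsc : Cfsg.Agent.H537.Cop.SC r T) (hsurv : ∀ g ∈ surv n l r [], g = Grp.psl 2 r)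
    (hc : ∀ a t : T, orderOf a = (r - 1) / 2 → t * a * t⁻¹ = a⁻¹ →
      Nat.card (centralizer ({a} : Set T)) < 2 * ((r - 1) / 2)) : Spr T := by
  obtain ⟨hv, hr3, hrn, h2, hne⟩ := of_chkN hchk
  exact spr_of_uniq hna (uniq_of_ltwo tab known hn hv hr hr3 hrn h2 hne hfree hsc hsurv hc)

omit [IsSimpleGroup T] in
/-- **Only `L₂(r)` at the top, counting**: `c` bounds their number, `D` the centralizers of the automorphisms of prime
order. -/
theorem spr_of_ltwo_count (tab : OrderTable.{u}) (known : Known.{u}) (hn : Nat.card T = n) (hr : r.Prime)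
    (hchk : chkN n l r = true) (hfree : Free r T) (hsc : Cfsg.Agent.H537.Cop.SC r T)
    (hsurv : ∀ g ∈ surv n l r [], g = Grp.psl 2 r) {c D : ℕ}
    (hc : ∀ a t : T, orderOf a = (r - 1) / 2 → t * a * t⁻¹ = a⁻¹ →
      Nat.card (centralizer ({a} : Set T)) ≤ c * ((r - 1) / 2) + ((r - 1) / 2 - 1))
    (hD : ∀ a : MulAut T, (orderOf a).Prime → Nat.card {x : T // a x = x} ≤ D)
    (hlt : (r - 1) * (1 + c * r) * r * D < n) : Spr T := by
  obtain ⟨hv, hr3, hrn, h2, hne⟩ := of_chkN hchk
  refine spr_of_prime fun a ha => goodA_of_ltwo tab known hn hv hr hr3 hrn h2 hfree hsc hsurv hc a ?_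
  exact lt_of_le_of_lt (Nat.mul_le_mul_left _ (hD a ha)) hlt

open scoped Pointwise in
/-- **Two simple groups at the top.** -/
theorem spr_of_two_tops (tab : OrderTable.{u}) (known : Known.{u}) (hna : ∃ x y : T, x * y ≠ y * x)
    (hn : Nat.card T = n) (hv : valid l n = true) (hr : r.Prime) (h2 : ¬ r ^ 2 ∣ n) (hfree : Free r T) {s : T}
    (hs : orderOf s = r) {N₁ N₂ : Subgroup T} (h1 : ∃ K : Subgroup T, K ≠ ⊤ ∧ IsTop T n l r s K N₁)
    (h2' : ∃ K : Subgroup T, K ≠ ⊤ ∧ IsTop T n l r s K N₂)
    (huniq : ∀ K N : Subgroup T, K ≠ ⊤ → IsTop T n l r s K N → N = N₁ ∨ N = N₂)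
    (hB : normalizer ((zpowers s : Subgroup T) : Set T) ≤ normalizer (N₁ : Set T)) : Spr T := by
  obtain ⟨K₁, hK₁, hN₁⟩ := h1
  obtain ⟨K₂, hK₂, hN₂⟩ := h2'
  have hr' : Fact r.Prime := ⟨hr⟩
  refine spr_of_two' hna (s := s) (M₁ := normalizer (N₁ : Set T)) (M₂ := normalizer (N₂ : Set T))
    (normalizer_ne_top hN₁.ne_bot (hN₁.ne_top hK₁)) (normalizer_ne_top hN₂.ne_bot (hN₂.ne_top hK₂)) ?_ ?_
  · intro y hy
    have hs1 : s ∈ normalizer (N₁ : Set T) := le_normalizer hN₁.mem
    have hs2 : s ∈ normalizer (N₂ : Set T) := le_normalizer hN₂.mem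
    have hs3 : y * s * y⁻¹ ∈ normalizer (N₂ : Set T) := by
      rw [← hy]
      exact mem_smul (c y) hs1
    have ho : orderOf (y * s * y⁻¹) = r := by
      rw [← hs]
      exact orderOf_injective (MulAut.conj y).toMonoidHom (MulAut.conj y).injective s
    obtain ⟨m, hm⟩ := conj_of_cyclic (G := normalizer (N₂ : Set T)) (s := r)
      (fun S => cyclic_of_sq (fun h => h2 (by rw [← hn]; exact h.trans (card_subgroup_dvd_card _))) S)
      (x := ⟨s, hs2⟩) (y := ⟨y * s * y⁻¹, hs3⟩) (by rw [Subgroup.orderOf_mk, hs]) (by rw [Subgroup.orderOf_mk, ho])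
    have h3 : (m * y : T) * s * (m * y : T)⁻¹ ∈ zpowers s := by
      obtain ⟨k, hk⟩ := mem_zpowers_iff.1 hm
      refine mem_zpowers_iff.2 ⟨k, ?_⟩
      have h4 : s ^ k = m * (y * s * y⁻¹) * (m : T)⁻¹ := congrArg Subtype.val hk
      rw [h4]
      group
    have h5 : (m * y : T) ∈ normalizer ((zpowers s : Subgroup T) : Set T) := by
      have h6 : (zpowers s).map (MulAut.conj (m * y : T)).toMonoidHom = zpowers s := by
        refine eq_of_le_of_card_ge ?_ (by rw [card_map_of_injective (MulAut.conj (m * y : T)).injective])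
        rw [MonoidHom.map_zpowers, zpowers_le]
        exact h3
      rw [mem_normalizer_iff]
      intro z
      constructor
      · intro hz
        rw [← h6]
        exact ⟨z, hz, rfl⟩
      · intro hz
        rw [← h6] at hz
        obtain ⟨w, hw, hwz⟩ := hz
        have : w = z := (MulAut.conj (m * y : T)).injective hwz
        rwa [← this]
    have h6 := hB h5
    have h7 : c (m * y : T) • normalizer (N₁ : Set T) = normalizer (N₁ : Set T) := c_smul_self h6
    have h8 : c (m * y : T) • normalizer (N₁ : Set T) = normalizer (N₂ : Set T) := by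
      rw [map_mul, mul_smul, hy]
      exact c_smul_self m.2
    rw [← h7, h8]
  · intro K hsK hK
    rcases cases tab known hn hv hr h2 hfree hs hK hsK with h | ⟨N, hN⟩
    · exact Or.inl (h.trans hB)
    · rcases huniq K N hK hN with h3 | h3
      · left
        rw [← h3]
        exact hN.le_norm
      · right
        rw [← h3]
        exact hN.le_norm

end

end Cfsg.Agent.H609.TH
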