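import Cfsg.Agent.H609.TH.Link

/-!
# S3938: the index of the simple group at the top (helper609)

* `IsTop.index_mul_dvd` : `|K : N| * e_N ∣ e_T`, `e_X = (|X| / r) % r = |N_X(⟨s⟩) : ⟨s⟩|`;
* `IsTop.norm_le` : if `e_N = e_T` then `N(⟨s⟩) ≤ N`.
-/

set_option autoImplicit false

namespace Cfsg.Agent.H609.TH

open Subgroup Cfsg.Agent.OrdDiv Cfsg.Agent.H257.El

universe u

variable {T : Type u} [Group T] [Finite T] {r n : ℕ} {l : List (ℕ × ℕ)}

omit [Finite T] in
theorem card_mul_relIndex {H K : Subgroup T} (h : H ≤ K) : Nat.card H * H.relIndex K = Nat.card K := by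
  have h1 := Subgroup.card_mul_index (H.subgroupOf K)
  rwa [Nat.card_congr (subgroupOfEquivOfLe h).toEquiv] at h1

/-- `|N_N(⟨s⟩)|` for a subgroup `N` -/
theorem card_norm_inf (hr : r.Prime) (h2 : ¬ r ^ 2 ∣ Nat.card T) (hsc : Cfsg.Agent.H537.Cop.SC r T) {s : T}
    (hs : orderOf s = r) {N : Subgroup T} (hsN : s ∈ N) (hne : Nat.card N ≠ r) :
    Nat.card (normalizer ((zpowers s : Subgroup T) : Set T) ⊓ N : Subgroup T) = r * ((Nat.card N / r) % r) := by
  have h3 := (card_norm_mod hr (fun h => h2 (h.trans (card_subgroup_dvd_card N))) hne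
    (sc_sub hr hsc N ⟨s, hsN⟩ (by rw [Subgroup.orderOf_mk, hs]))).1
  rw [← h3]
  refine Nat.card_congr
    { toFun := fun x => ⟨⟨x.1, x.2.2⟩, ?_⟩
      invFun := fun x => ⟨x.1.1, ?_, x.1.2⟩
      left_inv := fun x => rfl
      right_inv := fun x => rfl }
  · rw [mem_normalizer_iff]
    rintro ⟨y, hy⟩
    have h4 := mem_normalizer_iff.1 x.2.1 y
    constructor
    · intro h5
      obtain ⟨k, hk⟩ := mem_zpowers_iff.1 h5
      obtain ⟨j, hj⟩ := mem_zpowers_iff.1 (h4.1 (mem_zpowers_iff.2 ⟨k, congrArg Subtype.val hk⟩))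
      exact mem_zpowers_iff.2 ⟨j, Subtype.ext hj⟩
    · intro h5
      obtain ⟨k, hk⟩ := mem_zpowers_iff.1 h5
      obtain ⟨j, hj⟩ := mem_zpowers_iff.1 (h4.2 (mem_zpowers_iff.2 ⟨k, congrArg Subtype.val hk⟩))
      exact mem_zpowers_iff.2 ⟨j, Subtype.ext hj⟩
  · change (x.1 : T) ∈ normalizer ((zpowers s : Subgroup T) : Set T)
    rw [mem_normalizer_iff]
    -- it is enough to map `s` into `⟨s⟩`
    have h4 : (x.1 : T) * s * (x.1 : T)⁻¹ ∈ zpowers s := by
      have h5 := (mem_normalizer_iff.1 x.2 ⟨s, hsN⟩).1 (mem_zpowers _)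
      obtain ⟨k, hk⟩ := mem_zpowers_iff.1 h5
      exact mem_zpowers_iff.2 ⟨k, congrArg Subtype.val hk⟩
    have h6 : (zpowers s).map (MulAut.conj (x.1 : T)).toMonoidHom = zpowers s := by
      refine eq_of_le_of_card_ge ?_ (by rw [card_map_of_injective (MulAut.conj (x.1 : T)).injective])
      rw [MonoidHom.map_zpowers, zpowers_le]
      exact h4
    intro z
    constructor
    · intro hz
      rw [← h6]
      exact ⟨z, hz, rfl⟩
    · intro hz
      rw [← h6] at hz
      obtain ⟨w, hw, hwz⟩ := hz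
      have : w = z := (MulAut.conj (x.1 : T)).injective hwz
      rwa [← this]

omit [Finite T] in
theorem IsTop.card_ne {s : T} (hr : r.Prime) {K N : Subgroup T} (h : IsTop T n l r s K N) :
    Nat.card N ≠ r := by
  intro h1
  have hr' : Fact r.Prime := ⟨hr⟩
  have h2 : IsCyclic N := isCyclic_of_prime_card h1
  exact h.nonab fun a b => (IsCyclic.isMulCommutative (α := N)).is_comm.comm a b

/-- **The index at the top.** -/
theorem IsTop.index_mul_dvd (hr : r.Prime) (h2 : ¬ r ^ 2 ∣ Nat.card T) (hneT : Nat.card T ≠ r)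
    (hsc : Cfsg.Agent.H537.Cop.SC r T) {s : T} (hs : orderOf s = r) {K N : Subgroup T} (h : IsTop T n l r s K N) :
    Nat.card K ∣ Nat.card N * ((Nat.card T / r) % r) ∧
      N.relIndex K * ((Nat.card N / r) % r) ∣ (Nat.card T / r) % r := by
  have hr' : Fact r.Prime := ⟨hr⟩
  set B := normalizer ((zpowers s : Subgroup T) : Set T) with hB
  have hBc : Nat.card B = r * ((Nat.card T / r) % r) := (card_norm_mod hr h2 hneT (hsc s hs)).1
  have hNB := card_norm_inf hr h2 hsc hs h.mem (h.card_ne hr)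
  -- Frattini
  have hfr : ∀ k ∈ K, ∃ b ∈ B ⊓ K, ∃ x ∈ N, k = x * b := by
    intro k hk
    have h3 : k * s * k⁻¹ ∈ N := (mem_normalizer_iff.1 (h.le_norm hk) s).1 h.mem
    have ho : orderOf (k * s * k⁻¹) = r := by
      rw [← hs]
      exact orderOf_injective (MulAut.conj k).toMonoidHom (MulAut.conj k).injective s
    obtain ⟨m, hm⟩ := conj_of_cyclic (G := N) (s := r)
      (fun S => cyclic_of_sq (fun h => h2 (h.trans (card_subgroup_dvd_card _))) S)
      (x := ⟨s, h.mem⟩) (y := ⟨k * s * k⁻¹, h3⟩) (by rw [Subgroup.orderOf_mk, hs]) (by rw [Subgroup.orderOf_mk, ho])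
    have h4 : (m * k : T) * s * (m * k : T)⁻¹ ∈ zpowers s := by
      obtain ⟨j, hj⟩ := mem_zpowers_iff.1 hm
      refine mem_zpowers_iff.2 ⟨j, ?_⟩
      have h5 : s ^ j = m * (k * s * k⁻¹) * (m : T)⁻¹ := congrArg Subtype.val hj
      rw [h5]
      group
    refine ⟨m * k, ⟨?_, mul_mem (h.le m.2) hk⟩, (m : T)⁻¹, inv_mem m.2, by group⟩
    have h6 : (zpowers s).map (MulAut.conj (m * k : T)).toMonoidHom = zpowers s := by
      refine eq_of_le_of_card_ge ?_ (by rw [card_map_of_injective (MulAut.conj (m * k : T)).injective])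
      rw [MonoidHom.map_zpowers, zpowers_le]
      exact h4
    change (m * k : T) ∈ B
    rw [hB, mem_normalizer_iff]
    intro z
    constructor
    · intro hz
      rw [← h6]
      exact ⟨z, hz, rfl⟩
    · intro hz
      rw [← h6] at hz
      obtain ⟨w, hw, hwz⟩ := hz
      have : w = z := (MulAut.conj (m * k : T)).injective hwz
      rwa [← this]
  -- the index
  have hidx : N.relIndex K = N.relIndex (B ⊓ K) := by
    have hn : (N.subgroupOf K).Normal := ⟨fun y hy z => by
      rw [mem_subgroupOf] at hy ⊢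
      exact (mem_normalizer_iff.1 (h.le_norm z.2) _).1 hy⟩
    have h4 : (B ⊓ K).subgroupOf K ⊔ N.subgroupOf K = ⊤ := by
      rw [eq_top_iff]
      rintro ⟨k, hk⟩ -
      obtain ⟨b, hb, x, hx, hkx⟩ := hfr k hk
      have h5 : (⟨k, hk⟩ : K) = ⟨x, h.le hx⟩ * ⟨b, hb.2⟩ := Subtype.ext hkx
      rw [h5]
      exact mul_mem (mem_sup_right (mem_subgroupOf.2 hx)) (mem_sup_left (mem_subgroupOf.2 hb))
    have h5 := relIndex_sup_right (H := (B ⊓ K).subgroupOf K) (K := N.subgroupOf K)
    rw [h4, relIndex_top_right, relIndex_subgroupOf inf_le_right] at h5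
    exact h5
  have hmul : N.relIndex K * (r * ((Nat.card N / r) % r)) = Nat.card (B ⊓ K : Subgroup T) := by
    rw [← hNB, hidx]
    have h3 : (B ⊓ N : Subgroup T) = N ⊓ (B ⊓ K) := by
      apply le_antisymm
      · exact le_inf inf_le_right (le_inf inf_le_left (inf_le_right.trans h.le))
      · exact le_inf (inf_le_right.trans inf_le_left) inf_le_left
    rw [h3, mul_comm, ← card_mul_relIndex (inf_le_right : N ⊓ (B ⊓ K) ≤ B ⊓ K), inf_relIndex_right]
  have hdvd : Nat.card (B ⊓ K : Subgroup T) ∣ r * ((Nat.card T / r) % r) := by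
    rw [← hBc]
    exact card_dvd_of_le inf_le_left
  rw [← hmul] at hdvd
  have h3 : N.relIndex K * ((Nat.card N / r) % r) ∣ (Nat.card T / r) % r := by
    refine Nat.dvd_of_mul_dvd_mul_left hr.pos ?_
    have h4 : r * (N.relIndex K * ((Nat.card N / r) % r)) = N.relIndex K * (r * ((Nat.card N / r) % r)) := by ring
    rwa [h4]
  refine ⟨?_, h3⟩
  rw [← card_mul_relIndex h.le]
  exact mul_dvd_mul_left _ (dvd_of_mul_right_dvd h3)

/-- if `e_N = e_T` then `N` contains the normaliser of `⟨s⟩` -/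
theorem IsTop.norm_le (hr : r.Prime) (h2 : ¬ r ^ 2 ∣ Nat.card T) (hneT : Nat.card T ≠ r)
    (hsc : Cfsg.Agent.H537.Cop.SC r T) {s : T} (hs : orderOf s = r) {K N : Subgroup T} (h : IsTop T n l r s K N)
    (he : (Nat.card N / r) % r = (Nat.card T / r) % r) : normalizer ((zpowers s : Subgroup T) : Set T) ≤ N := by
  have hBc := (card_norm_mod hr h2 hneT (hsc s hs)).1
  have hNB := card_norm_inf hr h2 hsc hs h.mem (h.card_ne hr)
  rw [he, ← hBc] at hNB
  have h3 : (normalizer ((zpowers s : Subgroup T) : Set T) ⊓ N : Subgroup T) =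
      normalizer ((zpowers s : Subgroup T) : Set T) := eq_of_le_of_card_ge inf_le_left hNB.ge
  rw [← h3]
  exact inf_le_right

end Cfsg.Agent.H609.TH
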