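import Cfsg.Agent.H609.TH.Frat

/-!
# S3938: explicit generation (helper609)

* `GoodI.of_pow`, `GoodI.of_conj`, `goodI_of_rep` : representatives of the subgroups of prime order;
* `goodI_of_sylow` : it is enough to treat the elements of one Sylow subgroup;
* `goodA_of_pair` : `⟨x, a x⟩ = T`; `GoodA.of_conj`;
* `IsTop.of_eq` ...
-/

set_option autoImplicit false

namespace Cfsg.Agent.H609.TH

open Subgroup

universe u

variable {T : Type u} [Group T]

theorem GoodI.of_pow {g : T} (k : ℕ) (h : GoodI (g ^ k)) : GoodI g := by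
  obtain ⟨x, hx⟩ := h
  refine ⟨x, ?_⟩
  rw [eq_top_iff, ← hx, closure_le]
  rintro y (rfl | rfl)
  · exact Subgroup.subset_closure (Or.inl rfl)
  · have h1 : g ∈ closure ({x, g} : Set T) := Subgroup.subset_closure (Or.inr rfl)
    exact pow_mem h1 k

theorem GoodI.of_zpowers {g h : T} (hg : h ∈ zpowers g) (H : GoodI h) : GoodI g := by
  obtain ⟨x, hx⟩ := H
  refine ⟨x, ?_⟩
  rw [eq_top_iff, ← hx, closure_le]
  rintro y (rfl | rfl)
  · exact Subgroup.subset_closure (Or.inl rfl)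
  · have h1 : zpowers g ≤ closure ({x, g} : Set T) := by
      rw [zpowers_le]
      exact Subgroup.subset_closure (Or.inr rfl)
    exact h1 hg

theorem GoodI.of_conj {g : T} (u : T) (h : GoodI (u * g * u⁻¹)) : GoodI g := by
  obtain ⟨x, hx⟩ := h
  refine ⟨u⁻¹ * x * u, ?_⟩
  rw [eq_top_iff]
  intro y _
  have h1 : u * y * u⁻¹ ∈ closure ({x, u * g * u⁻¹} : Set T) := by rw [hx]; exact mem_top _
  have h2 : closure ({x, u * g * u⁻¹} : Set T) ≤ (closure ({u⁻¹ * x * u, g} : Set T)).comap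
      (MulAut.conj u⁻¹).toMonoidHom := by
    rw [closure_le]
    rintro z (rfl | rfl)
    · refine Subgroup.subset_closure (Or.inl ?_)
      simp [mul_assoc]
    · refine Subgroup.subset_closure (Or.inr ?_)
      simp [mul_assoc]
  have h3 := h2 h1
  rw [mem_comap] at h3
  simpa [mul_assoc] using h3

/-- a representative of the subgroups of order `p`: `⟨g⟩` is conjugate to `⟨g₀⟩` -/
theorem goodI_of_rep {p : ℕ} (hp : p.Prime) {g g₀ u : T} (hg : orderOf g = p) (h : u * g * u⁻¹ ∈ zpowers g₀)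
    (hg₀ : orderOf g₀ = p) (H : GoodI g₀) : GoodI g := by
  refine GoodI.of_conj u (GoodI.of_zpowers (h := g₀) ?_ H)
  have h1 : orderOf (u * g * u⁻¹) = p := by
    rw [← hg]
    exact orderOf_injective (MulAut.conj u).toMonoidHom (MulAut.conj u).injective g
  have h2 : zpowers (u * g * u⁻¹) = zpowers g₀ := by
    have : Finite (zpowers g₀) := Nat.finite_of_card_ne_zero (by rw [Nat.card_zpowers, hg₀]; exact hp.ne_zero)
    refine eq_of_le_of_card_ge (by rwa [zpowers_le]) ?_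
    rw [Nat.card_zpowers, Nat.card_zpowers, h1, hg₀]
  rw [h2]
  exact mem_zpowers g₀

/-- it is enough to treat the elements of order `p` of one Sylow subgroup -/
theorem goodI_of_sylow [Finite T] {p : ℕ} [hp : Fact p.Prime] (P : Sylow p T)
    (h : ∀ g ∈ (P : Subgroup T), orderOf g = p → GoodI g) (g : T) (hg : orderOf g = p) : GoodI g := by
  have hpg : IsPGroup p (zpowers g) := IsPGroup.of_card (n := 1) (by rw [Nat.card_zpowers, hg, pow_one])
  obtain ⟨Q, hQ⟩ := hpg.exists_le_sylow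
  obtain ⟨u, hu⟩ := MulAction.exists_smul_eq T Q P
  refine GoodI.of_conj u (h _ ?_ ?_)
  · rw [← hu, Sylow.coe_subgroup_smul]
    exact ⟨g, hQ (mem_zpowers g), rfl⟩
  · rw [← hg]
    exact orderOf_injective (MulAut.conj u).toMonoidHom (MulAut.conj u).injective g

/-- `p ∥ |T|`: one element -/
theorem goodI_of_sq [Finite T] {p : ℕ} (hp : p.Prime) (h2 : ¬ p ^ 2 ∣ Nat.card T) {g₀ : T} (hg₀ : orderOf g₀ = p)
    (H : GoodI g₀) (g : T) (hg : orderOf g = p) : GoodI g := by
  have hp' : Fact p.Prime := ⟨hp⟩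
  obtain ⟨u, hu⟩ := Cfsg.Agent.H257.El.conj_of_cyclic (fun S => Cfsg.Agent.H257.El.cyclic_of_sq h2 S) hg₀ hg
  refine goodI_of_rep hp hg hu hg₀ H

/-- `⟨x, a x⟩ = T` -/
theorem goodA_of_pair {a : MulAut T} {x : T} (h : closure ({x, a x} : Set T) = ⊤) : GoodA a := by
  refine ⟨x, fun K hxK hK => ?_⟩
  rw [eq_top_iff, ← h, closure_le]
  rintro y (rfl | rfl)
  · exact hxK
  · exact hK _ hxK

/-- conjugate automorphisms -/
theorem GoodA.of_conj {a : MulAut T} (b : MulAut T) (h : GoodA (b * a * b⁻¹)) : GoodA a := by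
  obtain ⟨x, hx⟩ := h
  refine ⟨b⁻¹ x, fun K hxK hK => ?_⟩
  have h1 := hx (K.map b.toMonoidHom) ⟨b⁻¹ x, hxK, by
    change b (b⁻¹ x) = x
    rw [← MulAut.mul_apply, mul_inv_cancel, MulAut.one_apply]⟩ (by
    rintro _ ⟨y, hy, rfl⟩
    refine ⟨a y, hK y hy, ?_⟩
    have h3 : (b * a * b⁻¹) (b y) = b (a (b⁻¹ (b y))) := rfl
    have h4 : b⁻¹ (b y) = y := b.symm_apply_apply y
    change b (a y) = (b * a * b⁻¹) (b y)
    rw [h3, h4])
  rw [eq_top_iff]
  intro y _
  have h2 : b y ∈ K.map b.toMonoidHom := by rw [h1]; exact mem_top _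
  obtain ⟨z, hz, hzy⟩ := h2
  have h3 : z = y := b.injective hzy
  rwa [← h3]

end Cfsg.Agent.H609.TH
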