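import Cfsg.Agent.H609.TH.Expl
import Cfsg.Agent.OrdDiv.Table
import Cfsg.Agent.H537.CopSC
import Cfsg.Agent.H123.SporSimple
import Cfsg.Agent.SporadicA.M11Facts
import Cfsg.Agent.Cit.Eleven
import Cfsg.Agent.H655.LySixtySeven

/-!
# S3938: the rows of `M₁₁`, `M₂₃`, `J₁`, `Ly` (helper609)
-/

set_option autoImplicit false
set_option maxRecDepth 100000

namespace Cfsg.Agent.H609.TH

open Subgroup Cfsg.Agent.OrdDiv Cfsg.Agent.H257.El Cfsg.Agent.H424.Spr

/-! ### `J₁` -/

theorem chk_j1 : chkN 175560 [(2, 3), (3, 1), (5, 1), (7, 1), (11, 1), (19, 1)] 19 = true := by decide +kernel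

theorem ok_j1 : okAll [(2, 3), (3, 1), (5, 1), (7, 1), (11, 1), (19, 1)] 19 = true := by decide +kernel

theorem surv_j1 : surv 175560 [(2, 3), (3, 1), (5, 1), (7, 1), (11, 1), (19, 1)] 19 [] = [] := by decide +kernel

theorem spr_j1 (known : Known.{0}) {T : Type} [Group T] [Finite T] (h : Spor.IsoJ1 T) : Spr T := by
  have hs : IsSimpleGroup T := H123.SporSimple.spor_simple (by unfold IsSporadicGroup; tauto)
  have hc : Nat.card T = 175560 := NotCT.Orders.j1 h
  exact spr_of_empty table known (exists_not_comm hc (by norm_num)) hc (r := 19) (by norm_num) chk_j1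
    (free_of_sc hc (of_chkN chk_j1).1 (by norm_num) (H537.Cop.j1_19 h) ok_j1) surv_j1

/-! ### `M₂₃` -/

theorem chk_m23 : chkN 10200960 [(2, 7), (3, 2), (5, 1), (7, 1), (11, 1), (23, 1)] 23 = true := by decide +kernel

theorem ok_m23 : okAll [(2, 7), (3, 2), (5, 1), (7, 1), (11, 1), (23, 1)] 23 = true := by decide +kernel

theorem surv_m23 : ∀ g ∈ surv 10200960 [(2, 7), (3, 2), (5, 1), (7, 1), (11, 1), (23, 1)] 23 [], g = Grp.psl 2 23 := by
  decide +kernel

theorem spr_m23 (known : Known.{0}) {T : Type} [Group T] [Finite T] (h : Spor.IsoM23 T) : Spr T := by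
  have hs : IsSimpleGroup T := H123.SporSimple.spor_simple (by unfold IsSporadicGroup; tauto)
  have hc : Nat.card T = 10200960 := NotCT.Orders.m23 h
  refine spr_of_ltwo_one table known (exists_not_comm hc (by norm_num)) hc (r := 23) (by norm_num) chk_m23
    (free_of_sc hc (of_chkN chk_m23).1 (by norm_num) (H537.Cop.m23_23 h) ok_m23) (H537.Cop.m23_23 h) surv_m23 ?_
  intro a t ha _
  rw [H537.Cop.m23_11 h a ha]
  norm_num

/-! ### `M₁₁` -/

theorem chk_m11 : chkN 7920 [(2, 4), (3, 2), (5, 1), (11, 1)] 11 = true := by decide +kernel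

theorem ok_m11 : okAll [(2, 4), (3, 2), (5, 1), (11, 1)] 11 = true := by decide +kernel

theorem surv_m11 : ∀ g ∈ surv 7920 [(2, 4), (3, 2), (5, 1), (11, 1)] 11 [], g = Grp.psl 2 11 := by decide +kernel

theorem spr_m11 (known : Known.{0}) {T : Type} [Group T] [Finite T] (h : Spor.IsoM11 T) : Spr T := by
  have hs : IsSimpleGroup T := H123.SporSimple.spor_simple (by unfold IsSporadicGroup; tauto)
  have hc : Nat.card T = 7920 := NotCT.Orders.m11 h
  refine spr_of_ltwo_one table known (exists_not_comm hc (by norm_num)) hc (r := 11) (by norm_num) chk_m11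
    (free_of_sc hc (of_chkN chk_m11).1 (by norm_num) (H537.Cop.m11_11 h) ok_m11) (H537.Cop.m11_11 h) surv_m11 ?_
  intro a t ha _
  rw [SporadicA.M11Facts.card_centralizer_five (Cit.Eleven.isM11 h) ha]
  norm_num

/-! ### `Ly` -/

theorem chk_ly : chkN 51765179004000000 [(2, 8), (3, 7), (5, 6), (7, 1), (11, 1), (31, 1), (37, 1), (67, 1)] 67 = true := by
  decide +kernel

theorem ok_ly : okAll [(2, 8), (3, 7), (5, 6), (7, 1), (11, 1), (31, 1), (37, 1), (67, 1)] 67 = true := by decide +kernel

theorem surv_ly : surv 51765179004000000 [(2, 8), (3, 7), (5, 6), (7, 1), (11, 1), (31, 1), (37, 1), (67, 1)] 67 [] = [] := by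
  decide +kernel

theorem spr_ly (known : Known.{0}) {T : Type} [Group T] [Finite T] (h : Spor.IsoLy T) : Spr T := by
  have hs : IsSimpleGroup T := H123.SporSimple.spor_simple (by unfold IsSporadicGroup; tauto)
  have hc : Nat.card T = 51765179004000000 := NotCT.Orders.ly h
  have hsc := H655.LySixtySeven.sc_ly (fun S _ _ _ => known S) h
  exact spr_of_empty table known (exists_not_comm hc (by norm_num)) hc (r := 67) (by norm_num) chk_ly
    (free_of_sc hc (of_chkN chk_ly).1 (by norm_num) hsc ok_ly) surv_ly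

end Cfsg.Agent.H609.TH
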