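import Mathlib

/-!
# S3938 (3/2-generation), general lemmas (helper609)

`L` a normal subgroup of the finite group `G` with `C_G(L) = 1`, simple.

* `row_of_prime` : it is enough to consider elements `g` of prime order;
* `of_unique` : if all the proper subgroups of `L` containing `s` are contained in one proper subgroup `M₀` of `L`, then for every
  `g ≠ 1` in `G` there is `x` with `L ≤ ⟨x, g⟩`;
* `of_count` : the count of the bad conjugates of `g`.
-/

set_option autoImplicit false

namespace Cfsg.Agent.H609.TH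

open Subgroup

universe u

/-- **3/2-generation of the almost simple groups with socle isomorphic to `X`** -/
def Row32 (X : Type u) [Group X] : Prop :=
  ∀ (G : Type u) [Group G] [Finite G] (L : Subgroup G) [L.Normal], Nonempty (L ≃* X) →
    centralizer (L : Set G) = ⊥ → ∀ g : G, g ≠ 1 → ∃ x : G, L ≤ closure ({x, g} : Set G)

section

variable {G : Type u} [Group G]

/-- the good elements -/
def Good (L : Subgroup G) (g : G) : Prop := ∃ x : G, L ≤ closure ({x, g} : Set G)

/-- a power of `g` -/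
theorem Good.of_pow {L : Subgroup G} {g : G} (k : ℕ) (h : Good L (g ^ k)) : Good L g := by
  obtain ⟨x, hx⟩ := h
  refine ⟨x, hx.trans ?_⟩
  rw [closure_le]
  rintro y (rfl | rfl)
  · exact subset_closure (Or.inl rfl)
  · have h1 : g ∈ closure ({x, g} : Set G) := Subgroup.subset_closure (Or.inr rfl)
    exact pow_mem h1 k

/-- conjugates of `g` -/
theorem Good.of_conj {L : Subgroup G} [hL : L.Normal] {g : G} (u : G) (h : Good L (u * g * u⁻¹)) : Good L g := by
  obtain ⟨x, hx⟩ := h
  refine ⟨u⁻¹ * x * u, fun y hy => ?_⟩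
  have h1 : u * y * u⁻¹ ∈ closure ({x, u * g * u⁻¹} : Set G) := hx (hL.conj_mem y hy u)
  have h2 : closure ({x, u * g * u⁻¹} : Set G) ≤ (closure ({u⁻¹ * x * u, g} : Set G)).comap
      (MulAut.conj u⁻¹).toMonoidHom := by
    rw [closure_le]
    rintro z (rfl | rfl)
    · refine subset_closure (Or.inl ?_)
      simp [mul_assoc]
    · refine subset_closure (Or.inr ?_)
      simp [mul_assoc]
  have h3 := h2 h1
  rw [mem_comap] at h3
  simpa [mul_assoc] using h3

theorem conj_mem_closure (s y : G) : y * s * y⁻¹ ∈ closure ({s, y} : Set G) := by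
  have h1 : s ∈ closure ({s, y} : Set G) := Subgroup.subset_closure (Or.inl rfl)
  have h2 : y ∈ closure ({s, y} : Set G) := Subgroup.subset_closure (Or.inr rfl)
  exact mul_mem (mul_mem h2 h1) (inv_mem h2)

/-- the reduction to elements of prime order -/
theorem good_of_prime [Finite G] {L : Subgroup G} (h : ∀ g : G, (orderOf g).Prime → Good L g) {g : G} (hg : g ≠ 1) :
    Good L g := by
  have h1 : orderOf g ≠ 1 := fun h => hg (orderOf_eq_one_iff.1 h)
  obtain ⟨p, hp, k, hk⟩ := Nat.exists_prime_and_dvd h1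
  have hk0 : k ≠ 0 := by
    rintro rfl
    rw [mul_zero] at hk
    exact (orderOf_pos g).ne' hk
  refine Good.of_pow k (h _ ?_)
  rw [orderOf_pow_of_dvd hk0 (by rw [hk]; exact dvd_mul_left _ _), hk, Nat.mul_div_cancel _ (Nat.pos_of_ne_zero hk0)]
  exact hp

end

theorem row_of_prime {X : Type u} [Group X]
    (h : ∀ (G : Type u) [Group G] [Finite G] (L : Subgroup G) [L.Normal], Nonempty (L ≃* X) →
      centralizer (L : Set G) = ⊥ → ∀ g : G, (orderOf g).Prime → Good L g) : Row32 X :=
  fun G _ _ L _ hL hc _ hg => good_of_prime (fun g hg => h G L hL hc g hg) hg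

section

variable {G : Type u} [Group G] [Finite G] {L : Subgroup G} [hL : L.Normal]

omit [Finite G] in
/-- a normal subgroup containing an element `≠ 1` contains `L` -/
theorem le_of_normal [hs : IsSimpleGroup L] (hc : centralizer (L : Set G) = ⊥) {N : Subgroup G} (hN : N.Normal)
    (h : N ≠ ⊥) : L ≤ N := by
  rcases hs.eq_bot_or_eq_top_of_normal (N.subgroupOf L) inferInstance with h1 | h1
  · exfalso
    apply h
    rw [eq_bot_iff, ← hc]
    have hd : Disjoint N L := by rwa [← subgroupOf_eq_bot]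
    intro x hx
    rw [mem_centralizer_iff]
    intro y hy
    exact (commute_of_normal_of_disjoint N L hN hL hd x y hx hy).symm.eq
  · exact subgroupOf_eq_top.1 h1

/-- **Lemma (E1).** -/
theorem of_unique [IsSimpleGroup L] (hc : centralizer (L : Set G) = ⊥) {s : G} (hs : s ∈ L) (hs1 : s ≠ 1)
    {M : Subgroup G} (hM : ¬ L ≤ M) (h : ∀ H : Subgroup G, H ≤ L → s ∈ H → H ≠ L → H ≤ M) {g : G} (hg : g ≠ 1) :
    Good L g := by
  by_contra hbad
  -- the intersection of `M` and `L`
  set K := M ⊓ L with hK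
  have hKL : K ≤ L := inf_le_right
  have hKne : K ≠ L := fun h1 => hM (by rw [← h1]; exact inf_le_left)
  have h' : ∀ H : Subgroup G, H ≤ L → s ∈ H → H ≠ L → H ≤ K := fun H h1 h2 h3 => le_inf (h H h1 h2 h3) h1
  -- the conjugates of `g` map `s` into `K`
  have key : ∀ u : G, u * g * u⁻¹ * s * (u * g * u⁻¹)⁻¹ ∈ K := by
    intro u
    set g' := u * g * u⁻¹ with hg'
    have hb : ¬ L ≤ closure ({s, g'} : Set G) := fun h1 => hbad (Good.of_conj u ⟨s, h1⟩)
    have h1 : closure ({s, g'} : Set G) ⊓ L ≤ K := by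
      refine h' _ inf_le_right ⟨subset_closure (Or.inl rfl), hs⟩ fun h2 => hb ?_
      rw [← h2]
      exact inf_le_left
    exact h1 ⟨conj_mem_closure s g', hL.conj_mem s hs g'⟩
  -- they normalise `K`
  have hnorm : ∀ u : G, u * g * u⁻¹ ∈ normalizer (K : Set G) := by
    intro u
    have hk := key u
    set g' := u * g * u⁻¹ with hg'
    have h1 : K.map (MulAut.conj g'⁻¹).toMonoidHom ≤ K := by
      refine h' _ ?_ ?_ ?_
      · rintro _ ⟨y, hy, rfl⟩
        exact hL.conj_mem y (hKL hy) g'⁻¹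
      · refine ⟨_, hk, ?_⟩
        change g'⁻¹ * (g' * s * g'⁻¹) * g'⁻¹⁻¹ = s
        group
      · intro h2
        apply hKne
        refine eq_of_le_of_card_ge hKL ?_
        rw [← h2, card_map_of_injective (MulAut.conj g'⁻¹).injective]
    have h2 : K.map (MulAut.conj g'⁻¹).toMonoidHom = K :=
      eq_of_le_of_card_ge h1 (by rw [card_map_of_injective (MulAut.conj g'⁻¹).injective])
    have h3 : g'⁻¹ ∈ normalizer (K : Set G) := by
      rw [mem_normalizer_iff]
      intro y
      constructor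
      · intro hy
        rw [← h2]
        exact ⟨y, hy, rfl⟩
      · intro hy
        rw [← h2] at hy
        obtain ⟨z, hz, hzy⟩ := hy
        have : y = z := ((MulAut.conj g'⁻¹).injective hzy).symm
        rwa [this]
    have h4 := inv_mem h3
    rwa [inv_inv] at h4
  have hle : Subgroup.normalClosure ({g} : Set G) ≤ normalizer (K : Set G) := by
    rw [Subgroup.normalClosure, closure_le]
    intro y hy
    rw [Group.mem_conjugatesOfSet_iff] at hy
    obtain ⟨a, ha, hy⟩ := hy
    rw [Set.mem_singleton_iff] at ha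
    subst ha
    obtain ⟨c, hc'⟩ := isConj_iff.1 hy
    rw [← hc']
    exact hnorm c
  have hne : Subgroup.normalClosure ({g} : Set G) ≠ ⊥ := fun h1 => hg (by
    have : g ∈ Subgroup.normalClosure ({g} : Set G) := subset_normalClosure rfl
    rwa [h1, mem_bot] at this)
  have hLn : L ≤ normalizer (K : Set G) := (le_of_normal hc normalClosure_normal hne).trans hle
  have hKn : (K.subgroupOf L).Normal := ⟨fun y hy z => by
    rw [mem_subgroupOf] at hy ⊢
    exact ((mem_normalizer_iff.1 (hLn z.2)) _).1 hy⟩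
  have hsK : s ∈ K := by
    have h1 := key 1
    -- `⟨s⟩` is proper, or `L` is cyclic
    by_cases h2 : zpowers s = L
    · exfalso
      apply hs1
      rw [← mem_bot, ← hc, mem_centralizer_iff]
      intro y hy
      rw [← h2] at hy
      obtain ⟨k, rfl⟩ := mem_zpowers_iff.1 hy
      exact ((Commute.refl s).zpow_left k).eq
    · exact h' _ (by rwa [zpowers_le]) (mem_zpowers s) h2 (mem_zpowers s)
  rcases IsSimpleGroup.eq_bot_or_eq_top_of_normal (K.subgroupOf L) hKn with h1 | h1
  · apply hs1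
    have h2 : (⟨s, hs⟩ : L) ∈ K.subgroupOf L := mem_subgroupOf.2 hsK
    rw [h1, mem_bot] at h2
    exact congrArg Subtype.val h2
  · exact hKne (le_antisymm hKL (subgroupOf_eq_top.1 h1))

/-- the `L`-class of `g` -/
def cl (L : Subgroup G) (g : G) : Set G := {y | ∃ u ∈ L, y = u * g * u⁻¹}

/-- **Count.** `KK` is a finite set of subgroups which contain the proper subgroups of `L` containing `s`; `b K` is a bound
for the number of `L`-conjugates `y` of `g` with `y s y⁻¹ ∈ K` and (if `g ∈ L`) `y ∈ K`. -/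
theorem of_bound {s : G} (hs : s ∈ L) (KK : Finset (Subgroup G))
    (h : ∀ H : Subgroup G, H ≤ L → s ∈ H → H ≠ L → ∃ K ∈ KK, H ≤ K) (g : G) (b : Subgroup G → ℕ)
    (hb : ∀ K ∈ KK, Nat.card {y : G // y ∈ cl L g ∧ y * s * y⁻¹ ∈ K ∧ (g ∈ L → y ∈ K)} ≤ b K)
    (hlt : ∑ K ∈ KK, b K < Nat.card (cl L g)) : Good L g := by
  classical
  by_contra hbad
  have _ := Fintype.ofFinite G
  apply absurd hlt
  rw [not_lt]
  have hcov : (cl L g).toFinset ⊆ KK.biUnion fun K =>
      Finset.univ.filter fun y : G => y ∈ cl L g ∧ y * s * y⁻¹ ∈ K ∧ (g ∈ L → y ∈ K) := by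
    intro y hy
    rw [Set.mem_toFinset] at hy
    have hy' := hy
    obtain ⟨u, hu, rfl⟩ := hy'
    set y := u * g * u⁻¹ with hydef
    have hbd : ¬ L ≤ closure ({s, y} : Set G) := fun h1 => hbad (Good.of_conj u ⟨s, h1⟩)
    obtain ⟨K, hK, hHK⟩ := h (closure ({s, y} : Set G) ⊓ L) inf_le_right ⟨subset_closure (Or.inl rfl), hs⟩ (by
      intro h2
      apply hbd
      rw [← h2]
      exact inf_le_left)
    rw [Finset.mem_biUnion]
    refine ⟨K, hK, ?_⟩
    rw [Finset.mem_filter]
    refine ⟨Finset.mem_univ _, hy, hHK ⟨conj_mem_closure s y, hL.conj_mem s hs y⟩,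
      fun hgL => hHK ⟨subset_closure (Or.inr rfl), ?_⟩⟩
    exact hL.conj_mem g hgL u
  calc Nat.card (cl L g) = (cl L g).toFinset.card := by rw [Nat.card_eq_fintype_card, Set.toFinset_card]
    _ ≤ _ := Finset.card_le_card hcov
    _ ≤ ∑ K ∈ KK, (Finset.univ.filter fun y : G => y ∈ cl L g ∧ y * s * y⁻¹ ∈ K ∧ (g ∈ L → y ∈ K)).card :=
        Finset.card_biUnion_le
    _ ≤ ∑ K ∈ KK, b K := by
        refine Finset.sum_le_sum fun K hK => ?_
        refine le_trans (le_of_eq ?_) (hb K hK)
        rw [Nat.card_eq_fintype_card, Fintype.card_subtype]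

omit [Finite G] hL in
/-- two elements of the `L`-class of `g` in the same way on `s` differ by an element of `C_L(s)` -/
theorem diff_mem [hL : L.Normal] {g y y' : G} (hy : y ∈ cl L g) (hy' : y' ∈ cl L g) : y⁻¹ * y' ∈ L := by
  obtain ⟨u, hu, rfl⟩ := hy
  obtain ⟨v, hv, rfl⟩ := hy'
  have h1 : (u * g * u⁻¹)⁻¹ * (v * g * v⁻¹) = u * (g⁻¹ * (u⁻¹ * v) * g) * v⁻¹ := by group
  rw [h1]
  refine mul_mem (mul_mem hu ?_) (inv_mem hv)
  have := hL.conj_mem (u⁻¹ * v) (mul_mem (inv_mem hu) hv) g⁻¹
  rwa [inv_inv] at this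

/-- bound 1: by the number of elements of `K` of the order of `s` -/
theorem bound_orderOf {s : G} (K : Subgroup G) (g : G) :
    Nat.card {y : G // y ∈ cl L g ∧ y * s * y⁻¹ ∈ K ∧ (g ∈ L → y ∈ K)} ≤
      Nat.card {z : K // orderOf z = orderOf s} * Nat.card (centralizer ({s} : Set G) ⊓ L : Subgroup G) := by
  classical
  have _ := Fintype.ofFinite G
  set Y := {y : G // y ∈ cl L g ∧ y * s * y⁻¹ ∈ K ∧ (g ∈ L → y ∈ K)} with hY
  let f : Y → {z : K // orderOf z = orderOf s} := fun y => ⟨⟨y.1 * s * y.1⁻¹, y.2.2.1⟩, by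
    rw [Subgroup.orderOf_mk]
    exact (orderOf_injective (MulAut.conj y.1).toMonoidHom (MulAut.conj y.1).injective s)⟩
  have hfib : ∀ z : {z : K // orderOf z = orderOf s}, Nat.card {y : Y // f y = z} ≤
      Nat.card (centralizer ({s} : Set G) ⊓ L : Subgroup G) := by
    intro z
    rcases isEmpty_or_nonempty {y : Y // f y = z} with hE | ⟨⟨y₀, hy₀⟩⟩
    · rw [Nat.card_of_isEmpty]
      exact Nat.zero_le _
    · refine Nat.card_le_card_of_injective (fun y => ⟨y₀.1⁻¹ * y.1.1, ?_⟩) ?_
      · refine ⟨mem_centralizer_singleton_iff.2 ?_, diff_mem y₀.2.1 y.1.2.1⟩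
        have h1 : y₀.1 * s * y₀.1⁻¹ = y.1.1 * s * y.1.1⁻¹ := by
          have h2 := hy₀.trans y.2.symm
          exact congrArg (fun w => ((w.1 : K) : G)) h2
        have h3 : s = y₀.1⁻¹ * (y.1.1 * s * y.1.1⁻¹) * y₀.1 := by
          rw [← h1]
          group
        calc y₀.1⁻¹ * y.1.1 * s = y₀.1⁻¹ * (y.1.1 * s * y.1.1⁻¹) * y₀.1 * (y₀.1⁻¹ * y.1.1) := by group
          _ = s * (y₀.1⁻¹ * y.1.1) := by rw [← h3]
      · intro y y' hyy
        have h1 : y₀.1⁻¹ * y.1.1 = y₀.1⁻¹ * y'.1.1 := congrArg Subtype.val hyy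
        exact Subtype.ext (Subtype.ext (mul_left_cancel h1))
  have e : Y ≃ Σ z, {y : Y // f y = z} := (Equiv.sigmaFiberEquiv f).symm
  rw [Nat.card_congr e, Nat.card_sigma]
  calc _ ≤ ∑ _z : {z : K // orderOf z = orderOf s}, Nat.card (centralizer ({s} : Set G) ⊓ L : Subgroup G) :=
        Finset.sum_le_sum fun z _ => hfib z
    _ = _ := by
        rw [Finset.sum_const, smul_eq_mul, Finset.card_univ, ← Nat.card_eq_fintype_card]

omit hL in
/-- bound 2 (`g ∈ L`): by the number of elements of `K` of the order of `g` -/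
theorem bound_inner {s : G} (K : Subgroup G) {g : G} (hg : g ∈ L) :
    Nat.card {y : G // y ∈ cl L g ∧ y * s * y⁻¹ ∈ K ∧ (g ∈ L → y ∈ K)} ≤ Nat.card {z : K // orderOf z = orderOf g} := by
  refine Nat.card_le_card_of_injective (fun y => ⟨⟨y.1, y.2.2.2 hg⟩, ?_⟩) ?_
  · obtain ⟨u, -, hu⟩ := y.2.1
    rw [Subgroup.orderOf_mk, hu]
    exact (orderOf_injective (MulAut.conj u).toMonoidHom (MulAut.conj u).injective g)
  · intro y y' h
    have h1 : y.1 = y'.1 := congrArg (fun w => ((w.1 : K) : G)) h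
    exact Subtype.ext h1

omit [Finite G] hL in
/-- the size of the `L`-class of `g` -/
theorem card_cl (g : G) : Nat.card (cl L g) * Nat.card (centralizer ({g} : Set G) ⊓ L : Subgroup G) = Nat.card L := by
  classical
  let C : Subgroup L := (centralizer ({g} : Set G)).subgroupOf L
  have e : (L ⧸ C) ≃ cl L g := by
    refine Equiv.ofBijective (fun q => Quotient.liftOn' q (fun u : L => (⟨u * g * (u : G)⁻¹, u, u.2, rfl⟩ : cl L g)) ?_) ⟨?_, ?_⟩
    · intro a b hab
      rw [QuotientGroup.leftRel_apply] at hab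
      have h1 := mem_centralizer_singleton_iff.1 (mem_subgroupOf.1 hab)
      apply Subtype.ext
      change (a : G) * g * (a : G)⁻¹ = (b : G) * g * (b : G)⁻¹
      have h2 : (a : G)⁻¹ * b * g = g * ((a : G)⁻¹ * b) := h1
      calc (a : G) * g * (a : G)⁻¹ = a * (g * ((a : G)⁻¹ * b)) * (b : G)⁻¹ := by group
        _ = a * ((a : G)⁻¹ * b * g) * (b : G)⁻¹ := by rw [h2]
        _ = (b : G) * g * (b : G)⁻¹ := by group
    · intro q q' hq
      induction q using Quotient.inductionOn' with | _ a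
      induction q' using Quotient.inductionOn' with | _ b
      have h1 : (a : G) * g * (a : G)⁻¹ = (b : G) * g * (b : G)⁻¹ := congrArg Subtype.val hq
      apply Quotient.sound'
      rw [QuotientGroup.leftRel_apply]
      refine mem_subgroupOf.2 (mem_centralizer_singleton_iff.2 ?_)
      change (a : G)⁻¹ * b * g = g * ((a : G)⁻¹ * b)
      calc (a : G)⁻¹ * b * g = (a : G)⁻¹ * ((b : G) * g * (b : G)⁻¹) * b := by group
        _ = (a : G)⁻¹ * ((a : G) * g * (a : G)⁻¹) * b := by rw [h1]
        _ = g * ((a : G)⁻¹ * b) := by group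
    · rintro ⟨_, u, hu, rfl⟩
      exact ⟨QuotientGroup.mk ⟨u, hu⟩, rfl⟩
  have hC : Nat.card C = Nat.card (centralizer ({g} : Set G) ⊓ L : Subgroup G) := by
    have : C = (centralizer ({g} : Set G) ⊓ L : Subgroup G).subgroupOf L := by
      ext x
      simp [C, mem_subgroupOf]
    rw [this]
    exact Nat.card_congr (subgroupOfEquivOfLe inf_le_right).toEquiv
  rw [← Nat.card_congr e, ← hC, ← Subgroup.card_eq_card_quotient_mul_card_subgroup]

end

end Cfsg.Agent.H609.TH
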