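import Cfsg.Agent.H257.El.Top
import Mathlib.LinearAlgebra.Matrix.ProjectiveSpecialLinearGroup

/-!
# Elements of order `p` in `PSL₂(p)` (helper609)

`exists_data` : for `s ∈ PSL₂(p)` of order `p` there are `a` of order `(p - 1) / 2` normalising `⟨s⟩` and `t` with
`t a t⁻¹ = a⁻¹` and `⟨s, t⟩ = PSL₂(p)`.
-/

set_option autoImplicit false

namespace Cfsg.Agent.H609.TH.LTwo

open Subgroup Matrix

section

variable {F : Type*} [Field F]

theorem val_mul (A B : SpecialLinearGroup (Fin 2) F) : (A * B).1 = A.1 * B.1 := rfl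

theorem inv_eq_of_mul {A B : SpecialLinearGroup (Fin 2) F} (h : A.1 * B.1 = 1) : A⁻¹ = B :=
  inv_eq_of_mul_eq_one_right (Subtype.ext h)

/-- upper unitriangular -/
def up (x : F) : SpecialLinearGroup (Fin 2) F := ⟨!![1, x; 0, 1], by simp [Matrix.det_fin_two]⟩

/-- lower unitriangular -/
def lo (x : F) : SpecialLinearGroup (Fin 2) F := ⟨!![1, 0; x, 1], by simp [Matrix.det_fin_two]⟩

/-- the Weyl element -/
def wy : SpecialLinearGroup (Fin 2) F := ⟨!![0, 1; -1, 0], by simp [Matrix.det_fin_two]⟩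

/-- diagonal -/
def dg (x : Fˣ) : SpecialLinearGroup (Fin 2) F := ⟨!![(x : F), 0; 0, ((x⁻¹ : Fˣ) : F)], by simp [Matrix.det_fin_two]⟩

theorem up_add (x y : F) : (up (x + y) : SpecialLinearGroup (Fin 2) F) = up x * up y := by
  apply Subtype.ext
  rw [val_mul]
  ext i j
  fin_cases i <;> fin_cases j <;> simp [up, Matrix.mul_apply, Fin.sum_univ_two, add_comm]

theorem up_zero : (up (0 : F)) = 1 := by
  ext i j
  fin_cases i <;> fin_cases j <;> simp [up]

theorem up_pow (x : F) (k : ℕ) : (up x) ^ k = up ((k : F) * x) := by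
  induction k with
  | zero => simp [up_zero]
  | succ k ih => rw [pow_succ, ih, ← up_add]; congr 1; push_cast; ring

theorem dg_mul (x y : Fˣ) : dg (x * y) = dg x * dg y := by
  apply Subtype.ext
  rw [val_mul]
  ext i j
  fin_cases i <;> fin_cases j <;> simp [dg, Matrix.mul_apply, Fin.sum_univ_two, mul_comm]

/-- the diagonal homomorphism -/
def dgHom : Fˣ →* SpecialLinearGroup (Fin 2) F := MonoidHom.mk' dg dg_mul

theorem dg_inv (x : Fˣ) : (dg x)⁻¹ = dg x⁻¹ := (map_inv dgHom x).symm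

theorem wy_dg (x : Fˣ) : wy * dg x * wy⁻¹ = (dg x)⁻¹ := by
  have h1 : wy * dg x = (dg x)⁻¹ * wy := by
    rw [dg_inv]
    apply Subtype.ext
    rw [val_mul, val_mul]
    ext i j
    fin_cases i <;> fin_cases j <;> simp [dg, wy, Matrix.mul_apply, Fin.sum_univ_two]
  rw [h1, mul_inv_cancel_right]

theorem dg_up (x : Fˣ) (y : F) : dg x * up y * (dg x)⁻¹ = up ((x : F) * x * y) := by
  have h1 : dg x * up y = up ((x : F) * x * y) * dg x := by
    apply Subtype.ext
    rw [val_mul, val_mul]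
    ext i j
    fin_cases i <;> fin_cases j <;> simp [dg, up, Matrix.mul_apply, Fin.sum_univ_two]
    field_simp
  rw [h1, mul_inv_cancel_right]

theorem wy_up (x : F) : wy * up x * wy⁻¹ = lo (-x) := by
  have h1 : wy * up x = lo (-x) * wy := by
    apply Subtype.ext
    rw [val_mul, val_mul]
    ext i j
    fin_cases i <;> fin_cases j <;> simp [lo, wy, up, Matrix.mul_apply, Fin.sum_univ_two]
  rw [h1, mul_inv_cancel_right]

/-- generation by the unitriangular matrices -/
theorem mem_of_up_lo {H : Subgroup (SpecialLinearGroup (Fin 2) F)} (hu : ∀ x : F, up x ∈ H) (hl : ∀ x : F, lo x ∈ H)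
    (g : SpecialLinearGroup (Fin 2) F) : g ∈ H := by
  have key : ∀ g : SpecialLinearGroup (Fin 2) F, g.1 1 0 ≠ 0 → g ∈ H := by
    intro g hc
    have hdet := g.2
    rw [Matrix.det_fin_two] at hdet
    have h1 : g = up ((g.1 0 0 - 1) / g.1 1 0) * lo (g.1 1 0) * up ((g.1 1 1 - 1) / g.1 1 0) := by
      apply Subtype.ext
      rw [val_mul, val_mul]
      ext i j
      fin_cases i <;> fin_cases j
      · simp [up, lo, Matrix.mul_apply, Fin.sum_univ_two]
        field_simp
        ring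
      · simp [up, lo, Matrix.mul_apply, Fin.sum_univ_two]
        field_simp
        linear_combination (-1 : F) * hdet
      · simp [up, lo, Matrix.mul_apply, Fin.sum_univ_two]
      · simp [up, lo, Matrix.mul_apply, Fin.sum_univ_two]
        field_simp
        ring
    rw [h1]
    exact mul_mem (mul_mem (hu _) (hl _)) (hu _)
  by_cases hc : g.1 1 0 = 0
  · have hdet := g.2
    rw [Matrix.det_fin_two, hc, mul_zero, sub_zero] at hdet
    have ha : g.1 0 0 ≠ 0 := left_ne_zero_of_mul (by rw [hdet]; exact one_ne_zero)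
    have h2 : lo 1 * g ∈ H := key _ (by
      rw [val_mul]
      simp [lo, Matrix.mul_apply, Fin.sum_univ_two, hc, ha])
    have h3 : g = (lo 1)⁻¹ * (lo 1 * g) := by group
    rw [h3]
    exact mul_mem (inv_mem (hl 1)) h2
  · exact key g hc

variable [Fintype F] {p : ℕ}

theorem exists_natCast (hp : p.Prime) (hF : Fintype.card F = p) (x : F) : ∃ k : ℕ, (k : F) = x := by
  have hp' : Fact p.Prime := ⟨hp⟩
  have hc : CharP F p := charP_of_card_eq_prime hF
  have : Function.Surjective (ZMod.castHom (dvd_refl p) F) := by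
    have hinj : Function.Injective (ZMod.castHom (dvd_refl p) F) := RingHom.injective _
    exact ((Fintype.bijective_iff_injective_and_card _).2 ⟨hinj, by rw [ZMod.card, hF]⟩).2
  obtain ⟨y, hy⟩ := this x
  refine ⟨y.val, ?_⟩
  rw [← hy, ZMod.castHom_apply, ZMod.natCast_val]

omit [Fintype F] in
theorem dg_mem_center {x : Fˣ} : dg x ∈ center (SpecialLinearGroup (Fin 2) F) ↔ x ^ 2 = 1 := by
  constructor
  · intro h
    have h1 : dg x * up 1 * (dg x)⁻¹ = up 1 := by
      rw [← (mem_center_iff.1 h (up 1)), mul_inv_cancel_right]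
    rw [dg_up, mul_one] at h1
    have h2 : (x : F) * x = 1 := by
      have := congrArg (fun g : SpecialLinearGroup (Fin 2) F => g.1 0 1) h1
      simpa [up] using this
    rw [pow_two]
    exact Units.ext h2
  · intro h
    rw [mem_center_iff]
    intro g
    apply Subtype.ext
    rw [val_mul, val_mul]
    have h1 : x⁻¹ = x := by
      rw [inv_eq_iff_mul_eq_one, ← pow_two, h]
    ext i j
    fin_cases i <;> fin_cases j <;> simp [dg, h1, Matrix.mul_apply, Fin.sum_univ_two, mul_comm]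

omit [Fintype F] in
theorem up_not_mem_center {x : F} (hx : x ≠ 0) : up x ∉ center (SpecialLinearGroup (Fin 2) F) := by
  intro h
  have h1 := mem_center_iff.1 h wy
  have h2 : wy * up x * wy⁻¹ = up x := by rw [h1, mul_inv_cancel_right]
  rw [wy_up] at h2
  have := congrArg (fun g : SpecialLinearGroup (Fin 2) F => g.1 0 1) h2
  exact hx (by simpa [up, lo] using this.symm)

/-- the projection -/
abbrev pr : SpecialLinearGroup (Fin 2) F →* ProjectiveSpecialLinearGroup (Fin 2) F :=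
  QuotientGroup.mk' (center (SpecialLinearGroup (Fin 2) F))

theorem orderOf_up (hp : p.Prime) (hF : Fintype.card F = p) : orderOf (pr (up (1 : F))) = p := by
  have hp' : Fact p.Prime := ⟨hp⟩
  have hc : CharP F p := charP_of_card_eq_prime hF
  refine orderOf_eq_prime ?_ ?_
  · rw [← map_pow, up_pow, CharP.cast_eq_zero, zero_mul, up_zero, map_one]
  · intro h
    exact up_not_mem_center one_ne_zero ((QuotientGroup.eq_one_iff _).1 h)

theorem closure_eq (hp : p.Prime) (hF : Fintype.card F = p) {H : Subgroup (ProjectiveSpecialLinearGroup (Fin 2) F)}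
    (h1 : pr (up (1 : F)) ∈ H) (h2 : pr (wy : SpecialLinearGroup (Fin 2) F) ∈ H) : H = ⊤ := by
  have hu : ∀ x : F, up x ∈ H.comap pr := by
    intro x
    obtain ⟨k, rfl⟩ := exists_natCast hp hF x
    have h3 : up ((k : F)) = (up (1 : F)) ^ k := by rw [up_pow, mul_one]
    rw [h3]
    exact pow_mem (mem_comap.2 h1) k
  have hl : ∀ x : F, lo x ∈ H.comap pr := by
    intro x
    have h3 := wy_up (-x)
    rw [neg_neg] at h3
    rw [← h3]
    exact mul_mem (mul_mem (mem_comap.2 h2) (hu _)) (inv_mem (mem_comap.2 h2))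
  rw [eq_top_iff]
  intro y _
  obtain ⟨g, rfl⟩ := QuotientGroup.mk'_surjective _ y
  exact mem_of_up_lo hu hl g

theorem orderOf_dg (hp : p.Prime) (hp2 : p ≠ 2) (hF : Fintype.card F = p) {w : Fˣ} (hw : orderOf w = p - 1) :
    orderOf (pr (dg w)) = (p - 1) / 2 := by
  have hodd : 2 ∣ p - 1 := by
    have := hp.odd_of_ne_two hp2
    obtain ⟨k, hk⟩ := this
    exact ⟨k, by omega⟩
  obtain ⟨m, hm⟩ := hodd
  have hdiv : (p - 1) / 2 = m := by omega
  have key : ∀ k : ℕ, (pr (dg w)) ^ k = 1 ↔ m ∣ k := by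
    intro k
    have h1 : (pr (dg w)) ^ k = pr (dg (w ^ k)) := by
      rw [← map_pow]
      congr 1
      exact (map_pow dgHom w k).symm
    rw [h1]
    have h2 : pr (dg (w ^ k)) = 1 ↔ (w ^ k) ^ 2 = 1 := by
      rw [← dg_mem_center]
      exact QuotientGroup.eq_one_iff _
    rw [h2, ← pow_mul, ← orderOf_dvd_iff_pow_eq_one, hw, hm, mul_comm k 2]
    exact Nat.mul_dvd_mul_iff_left (by norm_num)
  rw [hdiv]
  apply Nat.dvd_antisymm
  · rw [orderOf_dvd_iff_pow_eq_one, key]
  · rw [← key, pow_orderOf_eq_one]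

/-- in `PSL₂(p)` -/
theorem data_psl (hp : p.Prime) (hp2 : p ≠ 2) (hF : Fintype.card F = p)
    (h2 : ¬ p ^ 2 ∣ Nat.card (ProjectiveSpecialLinearGroup (Fin 2) F))
    {s : ProjectiveSpecialLinearGroup (Fin 2) F} (hs : orderOf s = p) :
    ∃ a t : ProjectiveSpecialLinearGroup (Fin 2) F, orderOf a = (p - 1) / 2 ∧ a * s * a⁻¹ ∈ zpowers s ∧
      t * a * t⁻¹ = a⁻¹ ∧ closure ({s, t} : Set (ProjectiveSpecialLinearGroup (Fin 2) F)) = ⊤ := by
  have hp' : Fact p.Prime := ⟨hp⟩
  set u := pr (up (1 : F)) with hu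
  have huo := orderOf_up hp hF
  obtain ⟨g, hg⟩ := Cfsg.Agent.H257.El.conj_of_cyclic (fun S => Cfsg.Agent.H257.El.cyclic_of_sq h2 S) huo hs
  obtain ⟨w, hw⟩ := IsCyclic.exists_generator (α := Fˣ)
  have hwo : orderOf w = p - 1 := by
    rw [orderOf_eq_card_of_forall_mem_zpowers hw, Nat.card_units, Nat.card_eq_fintype_card, hF]
  -- `g s g⁻¹` generates `⟨u⟩`
  have hso : orderOf (g * s * g⁻¹) = p := by
    rw [← hs]
    exact orderOf_injective (MulAut.conj g).toMonoidHom (MulAut.conj g).injective s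
  have hgen : zpowers (g * s * g⁻¹) = zpowers u := by
    refine eq_of_le_of_card_ge (by rwa [zpowers_le]) ?_
    rw [Nat.card_zpowers, Nat.card_zpowers, huo, hso]
  have hnorm : pr (dg w) * (g * s * g⁻¹) * (pr (dg w))⁻¹ ∈ zpowers (g * s * g⁻¹) := by
    obtain ⟨k, hk⟩ := mem_zpowers_iff.1 hg
    rw [← hk, ← conj_zpow, hk, hgen]
    refine zpow_mem ?_ k
    obtain ⟨m, hm⟩ := exists_natCast hp hF ((w : F) * w)
    have h3 : pr (dg w) * u * (pr (dg w))⁻¹ = u ^ m := by
      rw [hu, ← map_mul, ← map_inv, ← map_mul, dg_up, mul_one, ← map_pow, up_pow, mul_one, hm]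
    rw [h3]
    exact pow_mem (mem_zpowers u) m
  refine ⟨g⁻¹ * pr (dg w) * g, g⁻¹ * pr wy * g, ?_, ?_, ?_, ?_⟩
  · have h3 : orderOf (g⁻¹ * pr (dg w) * g) = orderOf (pr (dg w)) := by
      have := orderOf_injective (MulAut.conj g⁻¹).toMonoidHom (MulAut.conj g⁻¹).injective (pr (dg w))
      rw [← this]
      congr 1
      change g⁻¹ * pr (dg w) * g = g⁻¹ * pr (dg w) * g⁻¹⁻¹
      rw [inv_inv]
    rw [h3, orderOf_dg hp hp2 hF hwo]
  · obtain ⟨k, hk⟩ := mem_zpowers_iff.1 hnorm
    refine mem_zpowers_iff.2 ⟨k, ?_⟩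
    have h3 : g⁻¹ * pr (dg w) * g * s * (g⁻¹ * pr (dg w) * g)⁻¹ =
        g⁻¹ * (pr (dg w) * (g * s * g⁻¹) * (pr (dg w))⁻¹) * g := by group
    rw [h3, ← hk, conj_zpow]
    group
  · have h3 : pr wy * pr (dg w) * (pr wy)⁻¹ = (pr (dg w))⁻¹ := by
      rw [← map_mul, ← map_inv, ← map_mul, wy_dg, map_inv]
    calc g⁻¹ * pr wy * g * (g⁻¹ * pr (dg w) * g) * (g⁻¹ * pr wy * g)⁻¹
        = g⁻¹ * (pr wy * pr (dg w) * (pr wy)⁻¹) * g := by group
      _ = (g⁻¹ * pr (dg w) * g)⁻¹ := by rw [h3]; group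
  · set K := closure ({s, g⁻¹ * pr wy * g} : Set (ProjectiveSpecialLinearGroup (Fin 2) F)) with hK
    have h3 : K.map (MulAut.conj g).toMonoidHom = ⊤ := by
      have hsK : g * s * g⁻¹ ∈ K.map (MulAut.conj g).toMonoidHom := ⟨s, Subgroup.subset_closure (Or.inl rfl), rfl⟩
      refine closure_eq hp hF ?_ ?_
      · have h4 : zpowers u ≤ K.map (MulAut.conj g).toMonoidHom := by
          rw [← hgen, zpowers_le]
          exact hsK
        exact h4 (mem_zpowers u)
      · refine ⟨g⁻¹ * pr wy * g, Subgroup.subset_closure (Or.inr rfl), ?_⟩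
        change g * (g⁻¹ * pr wy * g) * g⁻¹ = pr wy
        group
    rw [eq_top_iff]
    intro y _
    have h4 : g * y * g⁻¹ ∈ K.map (MulAut.conj g).toMonoidHom := by rw [h3]; exact mem_top _
    obtain ⟨z, hz, hzy⟩ := h4
    have h5 : z = y := (MulAut.conj g).injective hzy
    rwa [← h5]

/-- **Elements of order `p` of `PSL₂(p)`.** -/
theorem exists_data {N : Type*} [Group N] (hp : p.Prime) (hp2 : p ≠ 2) (hF : Fintype.card F = p)
    (e : N ≃* ProjectiveSpecialLinearGroup (Fin 2) F) (h2 : ¬ p ^ 2 ∣ Nat.card N) {s : N} (hs : orderOf s = p) :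
    ∃ a t : N, orderOf a = (p - 1) / 2 ∧ a * s * a⁻¹ ∈ zpowers s ∧ t * a * t⁻¹ = a⁻¹ ∧
      closure ({s, t} : Set N) = ⊤ := by
  obtain ⟨a, t, h3, h4, h5, h6⟩ := data_psl (s := e s) hp hp2 hF (by rwa [← Nat.card_congr e.toEquiv])
    (by rw [MulEquiv.orderOf_eq, hs])
  refine ⟨e.symm a, e.symm t, by rw [MulEquiv.orderOf_eq, h3], ?_, ?_, ?_⟩
  · obtain ⟨k, hk⟩ := mem_zpowers_iff.1 h4
    refine mem_zpowers_iff.2 ⟨k, ?_⟩
    apply e.injective
    rw [map_zpow, hk, map_mul, map_mul, map_inv, e.apply_symm_apply]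
  · apply e.injective
    rw [map_mul, map_mul, map_inv, map_inv, e.apply_symm_apply, e.apply_symm_apply, h5]
  · rw [eq_top_iff]
    intro y _
    have h7 : e y ∈ closure ({e s, t} : Set (ProjectiveSpecialLinearGroup (Fin 2) F)) := by rw [h6]; exact mem_top _
    have h8 : closure ({e s, t} : Set (ProjectiveSpecialLinearGroup (Fin 2) F)) ≤
        (closure ({s, e.symm t} : Set N)).comap e.symm.toMonoidHom := by
      rw [closure_le]
      rintro z (rfl | rfl)
      · refine Subgroup.subset_closure (Or.inl ?_)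
        exact e.symm_apply_apply s
      · exact Subgroup.subset_closure (Or.inr rfl)
    have h9 := h8 h7
    rw [mem_comap] at h9
    change e.symm (e y) ∈ _ at h9
    rwa [e.symm_apply_apply] at h9

end

end Cfsg.Agent.H609.TH.LTwo
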