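import Cfsg.Agent.H257.El.Part
import Cfsg.Agent.H537.CopDefs
import Cfsg.Agent.H609.TH.Base

/-!
# S3938: the overgroups of an element of large prime order in a simple group of known order (helper609)

`r ∥ |T|` a prime, `s` of order `r`.

* `Free r T` : no non-trivial `q`-subgroup, `q ≠ r`, is normalised by an element of order `r`;
* `free_of_sc` : it holds if the elements of order `r` are self-centralising and no power `q ^ a ∣ |T|` is `1` modulo `r`;
* `cases` : then every proper `K ∋ s` normalises `⟨s⟩` or a non-abelian simple subgroup `N ∋ s` of a computed list `surv n l r []`.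
-/

set_option autoImplicit false

namespace Cfsg.Agent.H609.TH

open Subgroup Cfsg.Agent.OrdDiv Cfsg.Agent.H257.El

universe u

/-- no non-trivial `q`-subgroup, `q ≠ r`, is normalised by an element of order `r` -/
def Free (r : ℕ) (T : Type u) [Group T] : Prop :=
  ∀ y : T, orderOf y = r → ∀ q : ℕ, q.Prime → q ≠ r → ∀ R : Subgroup T, IsPGroup q R → y ∈ normalizer (R : Set T) → R = ⊥

/-- no prime power dividing the order is `1` modulo `r` -/
def okAll (l : List (ℕ × ℕ)) (r : ℕ) : Bool := l.all fun x => (x.1 == r) || okPow l r x.1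

/-- one prime -/
theorem bot_of_okPow {T : Type u} [Group T] [Finite T] {n : ℕ} {l : List (ℕ × ℕ)} {r : ℕ} (hn : Nat.card T = n)
    (hv : valid l n = true) (hr : r.Prime) (hsc : Cfsg.Agent.H537.Cop.SC r T) {y : T} (hy : orderOf y = r) {q : ℕ}
    (hq : q.Prime) (hqr : q ≠ r) (hok : okPow l r q = true) {R : Subgroup T} (hR : IsPGroup q R)
    (hyR : y ∈ normalizer (R : Set T)) : R = ⊥ := by
  have hq' : Fact q.Prime := ⟨hq⟩
  by_contra hne
  obtain ⟨b, hb⟩ := IsPGroup.iff_card.1 hR
  have hb1 : 1 ≤ b := by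
    by_contra hb0
    have : b = 0 := by omega
    subst this
    rw [pow_zero] at hb
    exact hne (card_eq_one.1 hb)
  have hdn : q ^ b ∣ n := by
    rw [← hb, ← hn]
    exact card_subgroup_dvd_card R
  obtain ⟨w, hwR, hw, hyw⟩ := exists_comm_of_normalizer hr hq hy hR hyR (by
    rw [hb]
    exact okPow_spec hv hok hq hb1 hdn)
  exact noOrd_of_cent hr hsc hq (Ne.symm hqr) _ (orderOf_mul_of_comm hr hq (Ne.symm hqr) hy hw hyw)

theorem free_of_sc {T : Type u} [Group T] [Finite T] {n : ℕ} {l : List (ℕ × ℕ)} {r : ℕ} (hn : Nat.card T = n)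
    (hv : valid l n = true) (hr : r.Prime) (hsc : Cfsg.Agent.H537.Cop.SC r T) (hok : okAll l r = true) : Free r T := by
  intro y hy q hq hqr R hR hyR
  by_cases hqn : q ∣ n
  · obtain ⟨k, hk, -⟩ := exists_pair hv hq le_rfl (by rwa [pow_one])
    unfold okAll at hok
    rw [List.all_eq_true] at hok
    have h1 := hok (q, k) hk
    rw [Bool.or_eq_true] at h1
    rcases h1 with h1 | h1
    · exact absurd (by simpa using h1) hqr
    · exact bot_of_okPow hn hv hr hsc hy hq hqr h1 hR hyR
  · have hq' : Fact q.Prime := ⟨hq⟩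
    obtain ⟨b, hb⟩ := IsPGroup.iff_card.1 hR
    rcases Nat.eq_zero_or_pos b with rfl | hb0
    · rw [pow_zero] at hb
      exact card_eq_one.1 hb
    · exfalso
      apply hqn
      rw [← hn]
      refine dvd_trans ?_ (card_subgroup_dvd_card R)
      rw [hb]
      exact dvd_pow_self q hb0.ne'

/-- the possible simple groups -/
structure IsTop (T : Type u) [Group T] (n : ℕ) (l : List (ℕ × ℕ)) (r : ℕ) (s : T) (K N : Subgroup T) : Prop where
  le : N ≤ K
  le_norm : K ≤ normalizer (N : Set T)
  mem : s ∈ N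
  simple : IsSimpleGroup N
  nonab : ¬ ∀ a b : N, a * b = b * a
  real : ∃ g ∈ surv n l r [], Real g N ∧ Nat.card N = ordN g

/-- **The proper overgroups of an element of order `r`.** -/
theorem cases {T : Type u} [Group T] [Finite T] {n : ℕ} {l : List (ℕ × ℕ)} {r : ℕ} (tab : OrderTable.{u})
    (known : Known.{u}) (hn : Nat.card T = n) (hv : valid l n = true) (hr : r.Prime) (h2 : ¬ r ^ 2 ∣ n)
    (hfree : Free r T) {s : T} (hs : orderOf s = r) {K : Subgroup T} (hK : K ≠ ⊤) (hsK : s ∈ K) :
    K ≤ normalizer ((zpowers s : Subgroup T) : Set T) ∨ ∃ N : Subgroup T, IsTop T n l r s K N := by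
  have hrK : r ∣ Nat.card K := by
    have := Subgroup.orderOf_dvd_natCard K hsK
    rwa [hs] at this
  have S : SitP T n l r K := ⟨tab, known, hn, hv, hr, h2, hK, hrK⟩
  obtain ⟨O, hO, N, h⟩ := S.exists_top
  have hN := h.normal
  -- the core is trivial
  have hO1 : O = ⊥ := by
    rw [← card_eq_one]
    by_contra hne
    obtain ⟨q, hq, hqd⟩ := Nat.exists_prime_and_dvd hne
    have hq' : Fact q.Prime := ⟨hq⟩
    have hr' : Fact r.Prime := ⟨hr⟩
    have hqr : q ≠ r := by
      rintro rfl
      exact h.core hqd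
    obtain ⟨P⟩ : Nonempty (Sylow q O) := inferInstance
    obtain ⟨y, hy, hyP⟩ := exists_normalizer h.dvdR O h.core P
    set P' : Subgroup K := (P : Subgroup O).map O.subtype with hP'
    have hPp : IsPGroup q P' := P.isPGroup'.map _
    have h1 := hfree (y : T) (by rw [Subgroup.orderOf_coe]; exact hy) q hq hqr (P'.map K.subtype) (hPp.map _) (by
      rw [mem_normalizer_iff]
      intro z
      constructor
      · rintro ⟨w, hw, rfl⟩
        exact ⟨y * w * y⁻¹, (mem_normalizer_iff.1 hyP w).1 hw, rfl⟩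
      · rintro ⟨w, hw, hwz⟩
        have hzK : z ∈ K := by
          have h3 : z = (y : T)⁻¹ * (K.subtype w) * y := by rw [hwz]; group
          rw [h3]
          exact mul_mem (mul_mem (inv_mem y.2) w.2) y.2
        refine ⟨⟨z, hzK⟩, (mem_normalizer_iff.1 hyP _).2 ?_, rfl⟩
        have h4 : y * ⟨z, hzK⟩ * y⁻¹ = w := Subtype.ext hwz.symm
        rw [h4]
        exact hw)
    have h5 : Nat.card P = 1 := by
      have h6 : Nat.card (P'.map K.subtype) = Nat.card P := by
        rw [card_map_of_injective K.subtype_injective, hP', card_map_of_injective O.subtype_injective]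
      rw [← h6, h1, card_bot]
    have h7 : q ∣ Nat.card P := P.dvd_card_of_dvd_card hqd
    rw [h5] at h7
    exact hq.one_lt.ne' (Nat.dvd_one.1 h7)
  have hinj : Function.Injective (QuotientGroup.mk' O) := by
    rw [← MonoidHom.ker_eq_bot_iff, QuotientGroup.ker_mk', hO1]
  set N₀ : Subgroup K := N.comap (QuotientGroup.mk' O) with hN₀
  have hN₀n : N₀.Normal := hN.comap _
  let e₀ : N₀ ≃* N := by
    refine MulEquiv.ofBijective ((QuotientGroup.mk' O).subgroupComap N) ⟨?_, ?_⟩
    · intro a b hab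
      exact Subtype.ext (hinj (congrArg Subtype.val hab))
    · rintro ⟨z, hz⟩
      obtain ⟨y, rfl⟩ := QuotientGroup.mk'_surjective O z
      exact ⟨⟨y, hz⟩, rfl⟩
  let e₁ : N₀ ≃* N₀.map K.subtype := N₀.equivMapOfInjective K.subtype K.subtype_injective
  have hle : N₀.map K.subtype ≤ K := by
    rintro _ ⟨y, -, rfl⟩
    exact y.2
  have hnorm : K ≤ normalizer ((N₀.map K.subtype : Subgroup T) : Set T) := by
    intro k hk
    rw [mem_normalizer_iff]
    intro z
    constructor
    · rintro ⟨w, hw, rfl⟩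
      exact ⟨⟨k, hk⟩ * w * ⟨k, hk⟩⁻¹, hN₀n.conj_mem w hw _, rfl⟩
    · rintro ⟨w, hw, hwz⟩
      refine ⟨⟨k, hk⟩⁻¹ * w * ⟨k, hk⟩⁻¹⁻¹, hN₀n.conj_mem w hw _, ?_⟩
      change k⁻¹ * (K.subtype w) * (k⁻¹)⁻¹ = z
      rw [hwz]
      group
  have hcard : Nat.card (N₀.map K.subtype) = Nat.card N := by
    rw [← Nat.card_congr e₁.toEquiv, Nat.card_congr e₀.toEquiv]
  have hmem : s ∈ N₀.map K.subtype := by
    refine ⟨⟨s, hsK⟩, ?_, rfl⟩
    change QuotientGroup.mk' O ⟨s, hsK⟩ ∈ N
    -- the image in the quotient by `N` is trivial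
    set z : K ⧸ O := QuotientGroup.mk' O ⟨s, hsK⟩ with hz
    have h1 : orderOf z ∣ r := by
      rw [hz, ← hs, ← Subgroup.orderOf_mk s hsK]
      exact orderOf_map_dvd _ _
    have h3 : orderOf (QuotientGroup.mk' N z) ∣ r := (orderOf_map_dvd _ _).trans h1
    rcases (Nat.dvd_prime hr).1 h3 with h4 | h4
    · rw [orderOf_eq_one_iff] at h4
      exact (QuotientGroup.eq_one_iff z).1 h4
    · exfalso
      have h5 : r ∣ N.index := by
        rw [← h4, index_eq_card]
        exact orderOf_dvd_natCard _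
      apply h.sq'
      rw [← Subgroup.card_mul_index N, pow_two]
      exact mul_dvd_mul h.dvd h5
  have hsim : IsSimpleGroup (N₀.map K.subtype) := by
    have := h.simple
    have e : N ≃* N₀.map K.subtype := e₀.symm.trans e₁
    have : Nontrivial (N₀.map K.subtype) := e.symm.toEquiv.nontrivial
    exact IsSimpleGroup.isSimpleGroup_of_surjective e.toMonoidHom e.surjective
  by_cases hc : ∀ a b : N, a * b = b * a
  · left
    have h1 : Nat.card (N₀.map K.subtype) = r := hcard.trans (h.card_of_comm hc)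
    have h3 : zpowers s = N₀.map K.subtype := by
      refine eq_of_le_of_card_ge (by rwa [zpowers_le]) ?_
      rw [h1, Nat.card_zpowers, hs]
    rw [h3]
    exact hnorm
  · right
    have hna : ¬ ∀ a b : N₀.map K.subtype, a * b = b * a := by
      intro h1
      apply hc
      intro a b
      have h3 := h1 ((e₀.symm.trans e₁) a) ((e₀.symm.trans e₁) b)
      rw [← map_mul, ← map_mul] at h3
      exact (e₀.symm.trans e₁).injective h3
    refine ⟨_, hle, hnorm, hmem, hsim, hna, ?_⟩
    have hd : Nat.card (N₀.map K.subtype) ∣ n := by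
      rw [← hn]
      exact card_subgroup_dvd_card _
    obtain ⟨g, hg, hgr, hgc⟩ := exists_good tab (known _) hna hv hd
    refine ⟨g, List.mem_filter.2 ⟨hg, ?_⟩, hgr, hgc⟩
    unfold okG
    rw [Bool.and_eq_true, Bool.and_eq_true]
    refine ⟨⟨?_, ?_⟩, rfl⟩
    · have h3 : r ∣ Nat.card (N₀.map K.subtype) := by
        have := Subgroup.orderOf_dvd_natCard _ hmem
        rwa [hs] at this
      rw [← hgc, Nat.mod_eq_zero_of_dvd h3]
      rfl
    · rw [← hgc]
      have h3 : Nat.card (N₀.map K.subtype) ≤ Nat.card K := Nat.le_of_dvd Nat.card_pos (card_dvd_of_le hle)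
      have h4 := S.card_lt
      have h5 : Nat.card (N₀.map K.subtype) ≠ n := by omega
      simpa using h5

end Cfsg.Agent.H609.TH
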