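import Cfsg.Agent.H609.TH.Parts
import Cfsg.Agent.H609.TH.Over
import Cfsg.Agent.H609.TH.LTwo
import Cfsg.Agent.ClassicalGeometry.PSL2Basic

/-!
# S3938: counting the overgroups `L₂(r)` (helper609)

* `card_orderOf_le` : the number of elements of order `r`;
* `ltwo_count` : in a group with self-centralising elements of order `r` the number of subgroups `L₂(r)` containing a given
  element of order `r` is at most `|C(a)| / ((r - 1) / 2)`, `a` of order `(r - 1) / 2`, inverted by some `t`;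
* `goodA_of_tops`, `uniq_of_tops`.
-/

set_option autoImplicit false

namespace Cfsg.Agent.H609.TH

open Subgroup Cfsg.Agent.OrdDiv Cfsg.Agent.H257.El

universe u

/-- the number of elements of order `r` -/
theorem card_orderOf_le {N : Type*} [Group N] [Finite N] {r : ℕ} (hr : r.Prime) (h2 : ¬ r ^ 2 ∣ Nat.card N) {s : N}
    (hs : orderOf s = r) :
    Nat.card {z : N // orderOf z = r} ≤ (normalizer ((zpowers s : Subgroup N) : Set N)).index * (r - 1) := by
  classical
  have hr' : Fact r.Prime := ⟨hr⟩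
  set C := normalizer ((zpowers s : Subgroup N) : Set N) with hC
  let Φ : (N ⧸ C) × Fin (r - 1) → N := fun x => x.1.out * s ^ ((x.2 : ℕ) + 1) * (x.1.out)⁻¹
  have hsurj : ∀ z : N, orderOf z = r → ∃ x, Φ x = z := by
    intro z hz
    obtain ⟨g, hg⟩ := conj_of_cyclic (fun S => cyclic_of_sq h2 S) hs hz
    -- the coset of `g⁻¹`
    set q : N ⧸ C := QuotientGroup.mk g⁻¹ with hq
    have h3 : (g⁻¹)⁻¹ * q.out ∈ C := by
      rw [← QuotientGroup.eq, hq]
      exact (QuotientGroup.out_eq' _).symm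
    rw [inv_inv] at h3
    -- `q.out⁻¹ z q.out ∈ ⟨s⟩`
    have h4 : (q.out)⁻¹ * z * q.out ∈ zpowers s := by
      have h5 : (q.out)⁻¹ * z * q.out = (g * q.out)⁻¹ * (g * z * g⁻¹) * ((g * q.out)⁻¹)⁻¹ := by group
      rw [h5]
      exact (mem_normalizer_iff.1 (inv_mem h3) _).1 hg
    have hord : orderOf ((q.out)⁻¹ * z * q.out) = r := by
      have h5 := orderOf_injective (MulAut.conj (q.out)⁻¹).toMonoidHom (MulAut.conj (q.out)⁻¹).injective z
      have h6 : (MulAut.conj (q.out)⁻¹).toMonoidHom z = (q.out)⁻¹ * z * q.out := by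
        change (q.out)⁻¹ * z * (q.out)⁻¹⁻¹ = _
        rw [inv_inv]
      rw [← h6, h5, hz]
    obtain ⟨k, hk, hkz⟩ : ∃ k < r, s ^ k = (q.out)⁻¹ * z * q.out := by
      have h5 := (isOfFinOrder_of_finite s).mem_zpowers_iff_mem_range_orderOf.1 h4
      rw [Finset.mem_image] at h5
      obtain ⟨k, hk, hkz⟩ := h5
      rw [Finset.mem_range, hs] at hk
      exact ⟨k, hk, hkz⟩
    have hk0 : k ≠ 0 := by
      rintro rfl
      rw [pow_zero] at hkz
      rw [← hkz, orderOf_one] at hord
      exact hr.one_lt.ne hord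
    refine ⟨(q, ⟨k - 1, by omega⟩), ?_⟩
    change q.out * s ^ (k - 1 + 1) * (q.out)⁻¹ = z
    rw [Nat.sub_add_cancel (Nat.one_le_iff_ne_zero.2 hk0), hkz]
    group
  have h3 : Nat.card {z : N // orderOf z = r} ≤ Nat.card ((N ⧸ C) × Fin (r - 1)) := by
    choose f hf using hsurj
    refine Nat.card_le_card_of_injective (fun z : {z : N // orderOf z = r} => f z.1 z.2) ?_
    intro z z' hzz
    apply Subtype.ext
    rw [← hf z.1 z.2, ← hf z'.1 z'.2]
    exact congrArg Φ hzz
  rw [Nat.card_prod, Nat.card_fin] at h3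
  exact h3

/-- the number of elements of order `r`, numerical form -/
theorem card_orderOf_mul_le {N : Type*} [Group N] [Finite N] {r : ℕ} (hr : r.Prime) (h2 : ¬ r ^ 2 ∣ Nat.card N)
    (hne : Nat.card N ≠ r) (hsc : Cfsg.Agent.H537.Cop.SC r N) {s : N} (hs : orderOf s = r) :
    Nat.card {z : N // orderOf z = r} * (r * ((Nat.card N / r) % r)) ≤ Nat.card N * (r - 1) := by
  have h3 := (card_norm_mod hr h2 hne (hsc s hs)).1
  have h4 := card_orderOf_le hr h2 hs
  calc Nat.card {z : N // orderOf z = r} * (r * ((Nat.card N / r) % r))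
      ≤ (normalizer ((zpowers s : Subgroup N) : Set N)).index * (r - 1) * (r * ((Nat.card N / r) % r)) :=
        Nat.mul_le_mul_right _ h4
    _ = Nat.card (normalizer ((zpowers s : Subgroup N) : Set N)) *
          (normalizer ((zpowers s : Subgroup N) : Set N)).index * (r - 1) := by rw [← h3]; ring
    _ = Nat.card N * (r - 1) := by rw [Subgroup.card_mul_index]

section

variable {T : Type u} [Group T] [Finite T] {r : ℕ}

/-- `SC` for subgroups -/
theorem sc_sub (hr : r.Prime) (hsc : Cfsg.Agent.H537.Cop.SC r T) (N : Subgroup T) : Cfsg.Agent.H537.Cop.SC r N := by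
  intro x hx
  have hx' : orderOf (x : T) = r := by rw [Subgroup.orderOf_coe]; exact hx
  have h1 : Nat.card (centralizer ({x} : Set N)) ≤ r := by
    rw [← hsc _ hx']
    refine Nat.card_le_card_of_injective (fun y => ⟨(y : N), ?_⟩) ?_
    · rw [mem_centralizer_singleton_iff]
      exact congrArg Subtype.val (mem_centralizer_singleton_iff.1 y.2)
    · intro y z h
      exact Subtype.ext (Subtype.ext (congrArg (fun w => ((w : centralizer ({(x : T)} : Set T)) : T)) h))
  have h2 : r ≤ Nat.card (centralizer ({x} : Set N)) := by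
    refine Nat.le_of_dvd Nat.card_pos ?_
    have h3 : x ∈ centralizer ({x} : Set N) := mem_centralizer_singleton_iff.2 rfl
    have h4 := Subgroup.orderOf_dvd_natCard _ h3
    rwa [hx] at h4
  omega

/-- elements commuting with `s` are powers of `s` -/
theorem mem_zpowers_of_comm (hsc : Cfsg.Agent.H537.Cop.SC r T) {s z : T} (hs : orderOf s = r) (h : z * s = s * z) :
    z ∈ zpowers s := by
  have h1 : zpowers s = centralizer ({s} : Set T) := by
    refine eq_of_le_of_card_ge ?_ ?_
    · rw [zpowers_le]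
      exact mem_centralizer_singleton_iff.2 rfl
    · rw [Nat.card_zpowers, hs, hsc s hs]
  rw [h1]
  exact mem_centralizer_singleton_iff.2 h

/-- a subgroup `L₂(r)` containing `s` -/
def IsLTwo (r : ℕ) (s : T) (N : Subgroup T) : Prop :=
  s ∈ N ∧ ∃ (F : Type) (_ : Field F) (_ : Fintype F), Fintype.card F = r ∧
    Nonempty (N ≃* Matrix.ProjectiveSpecialLinearGroup (Fin 2) F)

/-- data in `T` -/
theorem IsLTwo.exists_data (hr : r.Prime) (hr2 : r ≠ 2) (h2 : ¬ r ^ 2 ∣ Nat.card T) {s : T} (hs : orderOf s = r)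
    {N : Subgroup T} (h : IsLTwo r s N) :
    ∃ a t : T, a ∈ N ∧ t ∈ N ∧ orderOf a = (r - 1) / 2 ∧ a * s * a⁻¹ ∈ zpowers s ∧ t * a * t⁻¹ = a⁻¹ ∧
      N = closure ({s, t} : Set T) := by
  obtain ⟨hsN, F, _, _, hF, ⟨e⟩⟩ := h
  obtain ⟨a, t, h3, h4, h5, h6⟩ := LTwo.exists_data hr hr2 hF e
    (fun h => h2 (h.trans (card_subgroup_dvd_card N))) (s := ⟨s, hsN⟩) (by rw [Subgroup.orderOf_mk, hs])
  refine ⟨a, t, a.2, t.2, by rw [Subgroup.orderOf_coe, h3], ?_, congrArg Subtype.val h5, ?_⟩
  · obtain ⟨k, hk⟩ := mem_zpowers_iff.1 h4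
    exact mem_zpowers_iff.2 ⟨k, congrArg Subtype.val hk⟩
  · apply le_antisymm
    · intro y hy
      have h7 : (⟨y, hy⟩ : N) ∈ closure ({⟨s, hsN⟩, t} : Set N) := by rw [h6]; exact mem_top _
      have h8 : closure ({⟨s, hsN⟩, t} : Set N) ≤ (closure ({s, (t : T)} : Set T)).comap N.subtype := by
        rw [closure_le]
        rintro z (rfl | rfl)
        · exact Subgroup.subset_closure (Or.inl rfl)
        · exact Subgroup.subset_closure (Or.inr rfl)
      exact h8 h7
    · rw [closure_le]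
      rintro z (rfl | rfl)
      · exact hsN
      · exact t.2

omit [Finite T] in
/-- in a cyclic group elements of the same order are powers of each other -/
theorem mem_zpowers_of_cyclic {C : Type*} [Group C] [Finite C] [IsCyclic C] {x y : C} (h : orderOf x = orderOf y) :
    x ∈ zpowers y := by
  classical
  have _ := Fintype.ofFinite C
  have h1 := IsCyclic.card_pow_eq_one_le (α := C) (n := orderOf y) (orderOf_pos y)
  set S : Finset C := Finset.univ.filter fun z => z ^ orderOf y = 1 with hS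
  have h2 : (zpowers y : Set C).toFinset ⊆ S := by
    intro z hz
    rw [Set.mem_toFinset] at hz
    obtain ⟨k, rfl⟩ := mem_zpowers_iff.1 hz
    refine Finset.mem_filter.2 ⟨Finset.mem_univ _, ?_⟩
    rw [← zpow_natCast, ← zpow_mul, mul_comm, zpow_mul, zpow_natCast, pow_orderOf_eq_one, one_zpow]
  have h3 : (zpowers y : Set C).toFinset.card = orderOf y := by
    rw [Set.toFinset_card, ← Nat.card_eq_fintype_card]
    exact Nat.card_zpowers y
  have h4 : (zpowers y : Set C).toFinset = S := Finset.eq_of_subset_of_card_le h2 (by rw [h3]; exact h1)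
  have h5 : x ∈ S := by
    refine Finset.mem_filter.2 ⟨Finset.mem_univ _, ?_⟩
    rw [← h, pow_orderOf_eq_one]
  rw [← h4, Set.mem_toFinset] at h5
  exact h5

/-- the elements `a` of two subgroups `L₂(r)` are conjugate under `⟨s⟩`, up to powers -/
theorem exists_conj_pow (hr : r.Prime) (hr3 : 3 < r) (hsc : Cfsg.Agent.H537.Cop.SC r T) {s : T} (hs : orderOf s = r)
    {a b : T} (ha : orderOf a = (r - 1) / 2) (hb : orderOf b = (r - 1) / 2) (has : a * s * a⁻¹ ∈ zpowers s)
    (hbs : b * s * b⁻¹ ∈ zpowers s) : ∃ x ∈ zpowers s, ∃ i : ℤ, a = x * b ^ i * x⁻¹ := by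
  have hr' : Fact r.Prime := ⟨hr⟩
  have hnorm : ∀ {c : T}, c * s * c⁻¹ ∈ zpowers s → c ∈ normalizer ((zpowers s : Subgroup T) : Set T) := by
    intro c hc
    have h1 : (zpowers s).map (MulAut.conj c).toMonoidHom = zpowers s := by
      refine eq_of_le_of_card_ge ?_ ?_
      · rw [MonoidHom.map_zpowers, zpowers_le]
        exact hc
      · rw [card_map_of_injective (MulAut.conj c).injective]
    rw [mem_normalizer_iff]
    intro y
    constructor
    · intro hy
      rw [← h1]
      exact ⟨y, hy, rfl⟩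
    · intro hy
      rw [← h1] at hy
      obtain ⟨z, hz, hzy⟩ := hy
      have : z = y := (MulAut.conj c).injective hzy
      rwa [← this]
  set N := normalizer ((zpowers s : Subgroup T) : Set T) with hN
  have ha' : a ∈ N := hnorm has
  have hb' : b ∈ N := hnorm hbs
  have hZn : ((zpowers s).subgroupOf N).Normal := inferInstance
  -- the action
  let Z : Subgroup N := (zpowers s).subgroupOf N
  have hZc : Nat.card Z = r := by
    rw [Nat.card_congr (subgroupOfEquivOfLe le_normalizer).toEquiv, Nat.card_zpowers, hs]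
  have hZcy : IsCyclic Z := isCyclic_of_prime_card hZc
  have hcy : IsCyclic (MulAut Z) := by
    have e := IsCyclic.mulAutMulEquiv Z
    rw [hZc] at e
    exact isCyclic_of_injective (e : MulAut Z →* (ZMod r)ˣ) e.injective
  have hfin : Finite (MulAut Z) := by
    have : Finite (Z → Z) := inferInstance
    exact Finite.of_injective (fun φ : MulAut Z => (φ : Z → Z)) fun φ ψ h => MulEquiv.ext (congrFun h)
  let φ : N →* MulAut Z := MulAut.conjNormal (H := Z)
  have hker : ∀ c : N, φ c = 1 → (c : T) ∈ zpowers s := by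
    intro c hc
    refine mem_zpowers_of_comm hsc hs ?_
    have h1 := MulAut.conjNormal_apply (H := Z) c ⟨⟨s, le_normalizer (mem_zpowers s)⟩, mem_subgroupOf.2 (mem_zpowers s)⟩
    have h2 : MulAut.conjNormal (H := Z) c = 1 := hc
    rw [h2] at h1
    have h3 : s = (c : T) * s * (c : T)⁻¹ := congrArg (fun w : N => (w : T)) h1
    calc (c : T) * s = (c : T) * s * (c : T)⁻¹ * c := by group
      _ = s * c := by rw [← h3]
  have hm1 : 1 < (r - 1) / 2 := by
    have h1 : r ≠ 4 := by rintro rfl; norm_num at hr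
    omega
  have hmr : ¬ r ∣ (r - 1) / 2 := fun h => by
    have := Nat.le_of_dvd (by omega) h
    omega
  have hcop : ∀ {k : ℕ}, k ∣ (r - 1) / 2 → k ∣ r → k = 1 := by
    intro k h1 h2
    rcases (Nat.dvd_prime hr).1 h2 with h3 | h3
    · exact h3
    · exact absurd (h3 ▸ h1) hmr
  have hord : ∀ (c : T) (hc : c ∈ N), orderOf c = (r - 1) / 2 → orderOf (φ ⟨c, hc⟩) = (r - 1) / 2 := by
    intro c hc hco
    apply Nat.dvd_antisymm
    · rw [← hco, ← Subgroup.orderOf_mk c hc]
      exact orderOf_map_dvd φ _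
    · rw [← hco, orderOf_dvd_iff_pow_eq_one]
      have h1 : φ (⟨c, hc⟩ ^ orderOf (φ ⟨c, hc⟩)) = 1 := by rw [map_pow, pow_orderOf_eq_one]
      have h2 := hker _ h1
      have h3 : orderOf (c ^ orderOf (φ ⟨c, hc⟩)) ∣ r := by
        have h4 := Subgroup.orderOf_dvd_natCard _ h2
        rw [Nat.card_zpowers, hs] at h4
        exact h4
      rw [← orderOf_eq_one_iff]
      exact hcop (hco ▸ orderOf_pow_dvd _) h3
  have hin : φ ⟨a, ha'⟩ ∈ zpowers (φ ⟨b, hb'⟩) := mem_zpowers_of_cyclic (by rw [hord a ha' ha, hord b hb' hb])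
  obtain ⟨i, hi⟩ := mem_zpowers_iff.1 hin
  -- `a = z b ^ i`
  have hz : a * (b ^ i)⁻¹ ∈ zpowers s := by
    refine hker (⟨a, ha'⟩ * (⟨b, hb'⟩ ^ i)⁻¹) ?_
    rw [map_mul, map_inv, map_zpow, hi, mul_inv_cancel]
  set c := b ^ i with hc
  obtain ⟨l, hl⟩ := mem_zpowers_iff.1 hz
  have hcN : c ∈ N := zpow_mem hb' i
  have hcs : c * s * c⁻¹ ∈ zpowers s := (mem_normalizer_iff.1 hcN s).1 (mem_zpowers s)
  obtain ⟨j, hj⟩ := mem_zpowers_iff.1 hcs
  -- `j ≠ 1` modulo `r`
  have hj1 : ¬ (r : ℤ) ∣ 1 - j := by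
    rintro ⟨v, hv⟩
    have h1 : s ^ j = s := by
      have h2 : j = 1 - r * v := by omega
      rw [h2, zpow_sub, zpow_one, zpow_mul, zpow_natCast, ← hs, pow_orderOf_eq_one, one_zpow, inv_one, mul_one]
    have h2 : c * s = s * c := by
      calc c * s = (c * s * c⁻¹) * c := by group
        _ = s * c := by rw [← hj, h1]
    have h3 : a * s = s * a := by
      have h4 : a = s ^ l * c := by rw [hl]; group
      rw [h4, mul_assoc, h2, ← mul_assoc, ← mul_assoc]
      congr 1
      exact ((Commute.refl s).zpow_left l).eq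
    have h4 := mem_zpowers_of_comm hsc hs h3
    have h5 : orderOf a ∣ r := by
      have h6 := Subgroup.orderOf_dvd_natCard _ h4
      rwa [Nat.card_zpowers, hs] at h6
    have h6 := hcop (by rw [← ha]) h5
    rw [ha] at h6
    omega
  have hcopr : IsCoprime (1 - j) (r : ℤ) := by
    rw [isCoprime_comm]
    exact (Nat.prime_iff_prime_int.1 hr).coprime_iff_not_dvd.2 hj1
  obtain ⟨u, v, huv⟩ := hcopr
  refine ⟨s ^ (u * l), zpow_mem (mem_zpowers s) _, i, ?_⟩
  -- `s ^ k * c * s ^ (-k) = s ^ (k (1 - j)) * c`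
  have h1 : ∀ k : ℤ, s ^ k * c * (s ^ k)⁻¹ = s ^ (k * (1 - j)) * c := by
    intro k
    have h2 : c * (s ^ k)⁻¹ = s ^ (j * (-k)) * c := by
      have h3 : c * s ^ (-k) * c⁻¹ = s ^ (j * (-k)) := by
        rw [← conj_zpow, ← hj, zpow_mul]
      rw [← h3, zpow_neg]
      group
    rw [mul_assoc, h2, ← mul_assoc, ← zpow_add]
    congr 2
    ring
  rw [← hc, h1]
  have h2 : s ^ (u * l * (1 - j)) = s ^ l := by
    have h3 : u * l * (1 - j) = l + r * (-(v * l)) := by
      linear_combination l * huv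
    rw [h3, zpow_add, zpow_mul, zpow_natCast]
    have h4 : s ^ r = 1 := by rw [← hs, pow_orderOf_eq_one]
    rw [h4, one_zpow, mul_one]
  rw [h2, hl]
  group

/-- **The number of subgroups `L₂(r)` containing `s`.** -/
theorem ltwo_count (hr : r.Prime) (hr3 : 3 < r) (h2 : ¬ r ^ 2 ∣ Nat.card T) (hsc : Cfsg.Agent.H537.Cop.SC r T) {s : T}
    (hs : orderOf s = r) {NN : Finset (Subgroup T)} (hNN : ∀ N ∈ NN, IsLTwo r s N) :
    NN = ∅ ∨ ∃ a t : T, orderOf a = (r - 1) / 2 ∧ a * s * a⁻¹ ∈ zpowers s ∧ t * a * t⁻¹ = a⁻¹ ∧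
      NN.card * ((r - 1) / 2) ≤ Nat.card (centralizer ({a} : Set T)) := by
  classical
  rcases NN.eq_empty_or_nonempty with h | ⟨N₀, hN₀⟩
  · exact Or.inl h
  right
  have hr2 : r ≠ 2 := by omega
  obtain ⟨a, t₀, haN, htN, ha, has, hta, -⟩ := (hNN N₀ hN₀).exists_data hr hr2 h2 hs
  refine ⟨a, t₀, ha, has, hta, ?_⟩
  -- the element `t` of `N`
  have key : ∀ N ∈ NN, ∃ t : T, t * a * t⁻¹ = a⁻¹ ∧ N = closure ({s, t} : Set T) ∧ a ∈ N := by
    intro N hN
    obtain ⟨b, t, hbN, htN, hb, hbs, htb, hcl⟩ := (hNN N hN).exists_data hr hr2 h2 hs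
    obtain ⟨x, hx, i, hai⟩ := exists_conj_pow hr hr3 hsc hs ha hb has hbs
    have hxN : x ∈ N := by
      have : zpowers s ≤ N := by rw [zpowers_le]; exact (hNN N hN).1
      exact this hx
    have hxs : x * s * x⁻¹ = s := by
      obtain ⟨k, rfl⟩ := mem_zpowers_iff.1 hx
      have h1 : s ^ k * s = s * s ^ k := ((Commute.refl s).zpow_left k).eq
      rw [h1, mul_inv_cancel_right]
    refine ⟨x * t * x⁻¹, ?_, ?_, ?_⟩
    · have h1 : t * b ^ i * t⁻¹ = (b ^ i)⁻¹ := by
        rw [← conj_zpow, htb, inv_zpow]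
      calc x * t * x⁻¹ * a * (x * t * x⁻¹)⁻¹ = x * (t * b ^ i * t⁻¹) * x⁻¹ := by rw [hai]; group
        _ = a⁻¹ := by rw [h1, hai]; group
    · have h1 : closure ({s, x * t * x⁻¹} : Set T) = (closure ({s, t} : Set T)).map (MulAut.conj x).toMonoidHom := by
        rw [MonoidHom.map_closure]
        congr 1
        rw [Set.image_pair]
        congr 1
        exact hxs.symm
      rw [h1, ← hcl]
      apply le_antisymm
      · intro y hy
        refine ⟨x⁻¹ * y * x, mul_mem (mul_mem (inv_mem hxN) hy) hxN, ?_⟩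
        change x * (x⁻¹ * y * x) * x⁻¹ = y
        group
      · rintro _ ⟨y, hy, rfl⟩
        exact mul_mem (mul_mem hxN hy) (inv_mem hxN)
    · rw [hai]
      exact mul_mem (mul_mem hxN (zpow_mem hbN i)) (inv_mem hxN)
  choose! f hf using key
  set m := (r - 1) / 2 with hm
  -- the injection
  let g : NN × Fin m → centralizer ({a} : Set T) := fun p => ⟨t₀⁻¹ * (f p.1.1 * a ^ (p.2 : ℕ)), by
    rw [mem_centralizer_singleton_iff]
    have h3 := (hf p.1.1 p.1.2).1
    have h4 : f p.1.1 * a = a⁻¹ * f p.1.1 := by rw [← h3]; group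
    have h5 : t₀⁻¹ * a⁻¹ = a * t₀⁻¹ := by
      have h6 : t₀⁻¹ * (t₀ * a * t₀⁻¹) = a * t₀⁻¹ := by group
      rw [← h6, hta]
    have h6 : a ^ (p.2 : ℕ) * a = a * a ^ (p.2 : ℕ) := (Commute.refl a).pow_left _ |>.eq
    calc t₀⁻¹ * (f p.1.1 * a ^ (p.2 : ℕ)) * a = t₀⁻¹ * (f p.1.1 * (a ^ (p.2 : ℕ) * a)) := by group
      _ = t₀⁻¹ * ((f p.1.1 * a) * a ^ (p.2 : ℕ)) := by rw [h6]; group
      _ = (t₀⁻¹ * a⁻¹) * (f p.1.1 * a ^ (p.2 : ℕ)) := by rw [h4]; group
      _ = a * (t₀⁻¹ * (f p.1.1 * a ^ (p.2 : ℕ))) := by rw [h5]; group⟩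
  have hg : Function.Injective g := by
    rintro ⟨⟨N, hN⟩, k⟩ ⟨⟨N', hN'⟩, l⟩ h
    have h3 : f N * a ^ (k : ℕ) = f N' * a ^ (l : ℕ) := mul_left_cancel (congrArg Subtype.val h)
    have hle : ∀ {N N' : Subgroup T} (_ : N ∈ NN) (_ : N' ∈ NN) {k l : ℕ}, f N * a ^ k = f N' * a ^ l → N ≤ N' := by
      intro N N' hN hN' k l h
      have h4 := (hf N' hN').2
      have h5 : f N' ∈ N' := by
        have h7 : f N' ∈ closure ({s, f N'} : Set T) := Subgroup.subset_closure (Or.inr rfl)
        rwa [← h4.1] at h7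
      have h6 : f N ∈ N' := by
        have h7 : f N = f N' * a ^ l * (a ^ k)⁻¹ := by rw [← h, mul_inv_cancel_right]
        rw [h7]
        exact mul_mem (mul_mem h5 (pow_mem h4.2 l)) (inv_mem (pow_mem h4.2 k))
      rw [(hf N hN).2.1, closure_le]
      rintro z (rfl | rfl)
      · exact (hNN N' hN').1
      · exact h6
    have hNN' : N = N' := le_antisymm (hle hN hN' h3) (hle hN' hN h3.symm)
    subst hNN'
    have h4 : a ^ (k : ℕ) = a ^ (l : ℕ) := mul_left_cancel h3
    have h5 : (k : ℕ) = l := pow_injOn_Iio_orderOf (by rw [Set.mem_Iio, ha]; exact k.2) (by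
      rw [Set.mem_Iio, ha]; exact l.2) h4
    have h6 : k = l := Fin.ext h5
    subst h6
    rfl
  have hle := Nat.card_le_card_of_injective g hg
  rwa [Nat.card_prod, Nat.card_fin, Nat.card_eq_fintype_card, Fintype.card_coe] at hle

/-- the order of `N_N(⟨s⟩)` for `N = L₂(r)` divides the one in `T`: `(r - 1) / 2 ∣ e` -/
theorem IsLTwo.dvd (hr : r.Prime) (hr3 : 3 < r) (h2 : ¬ r ^ 2 ∣ Nat.card T) (hsc : Cfsg.Agent.H537.Cop.SC r T) {s : T}
    (hs : orderOf s = r) {N : Subgroup T} (h : IsLTwo r s N) : (r - 1) / 2 ∣ (Nat.card T / r) % r := by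
  have hr2 : r ≠ 2 := by omega
  have hr' : Fact r.Prime := ⟨hr⟩
  obtain ⟨a, t, haN, htN, ha, has, hta, -⟩ := h.exists_data hr hr2 h2 hs
  have hm1 : 1 < (r - 1) / 2 := by
    have h1 : r ≠ 4 := by rintro rfl; norm_num at hr
    omega
  have hneT : Nat.card T ≠ r := by
    intro h1
    have h3 : a * s = s * a := by
      have h4 : IsCyclic T := isCyclic_of_prime_card h1
      exact (IsCyclic.isMulCommutative (α := T)).is_comm.comm a s
    have h4 := mem_zpowers_of_comm hsc hs h3
    have h5 := Subgroup.orderOf_dvd_natCard _ h4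
    rw [Nat.card_zpowers, hs, ha] at h5
    rcases (Nat.dvd_prime hr).1 h5 with h6 | h6 <;> omega
  have h3 := (card_norm_mod hr h2 hneT (hsc s hs)).1
  -- `a` normalises `⟨s⟩`
  have h1 : (zpowers s).map (MulAut.conj a).toMonoidHom = zpowers s := by
    refine eq_of_le_of_card_ge ?_ ?_
    · rw [MonoidHom.map_zpowers, zpowers_le]
      exact has
    · rw [card_map_of_injective (MulAut.conj a).injective]
  have haN' : a ∈ normalizer ((zpowers s : Subgroup T) : Set T) := by
    rw [mem_normalizer_iff]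
    intro y
    constructor
    · intro hy
      rw [← h1]
      exact ⟨y, hy, rfl⟩
    · intro hy
      rw [← h1] at hy
      obtain ⟨z, hz, hzy⟩ := hy
      have : z = y := (MulAut.conj a).injective hzy
      rwa [← this]
  have h4 := Subgroup.orderOf_dvd_natCard _ haN'
  rw [ha, h3] at h4
  refine Nat.Coprime.dvd_of_dvd_mul_left ?_ h4
  rw [Nat.coprime_comm, hr.coprime_iff_not_dvd]
  intro h5
  have := Nat.le_of_dvd (by omega) h5
  omega

/-- elements of order `r` normalising `N ∋ s` are in `N` -/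
theorem mem_of_norm (hr : r.Prime) (h2 : ¬ r ^ 2 ∣ Nat.card T) {N : Subgroup T} (hrN : r ∣ Nat.card N) {z : T}
    (hz : orderOf z = r) (hzN : z ∈ normalizer (N : Set T)) : z ∈ N := by
  set C := normalizer (N : Set T) with hC
  set N' := N.subgroupOf C with hN'
  have hn : N'.Normal := inferInstance
  have h3 : orderOf (QuotientGroup.mk' N' ⟨z, hzN⟩) ∣ r := by
    rw [← hz, ← Subgroup.orderOf_mk z hzN]
    exact orderOf_map_dvd _ _
  rcases (Nat.dvd_prime hr).1 h3 with h4 | h4
  · rw [orderOf_eq_one_iff] at h4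
    exact mem_subgroupOf.1 ((QuotientGroup.eq_one_iff _).1 h4)
  · exfalso
    have h5 : r ∣ N'.index := by
      rw [← h4, index_eq_card]
      exact orderOf_dvd_natCard _
    apply h2
    refine dvd_trans ?_ (card_subgroup_dvd_card C)
    rw [← Subgroup.card_mul_index N', pow_two]
    refine mul_dvd_mul ?_ h5
    rwa [Nat.card_congr (subgroupOfEquivOfLe le_normalizer).toEquiv]

/-- **Counting with the simple groups at the top.** -/
theorem goodA_of_tops {n : ℕ} {l : List (ℕ × ℕ)} (tab : OrderTable.{u}) (known : Known.{u}) (hn : Nat.card T = n)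
    (hv : valid l n = true) (hr : r.Prime) (h2 : ¬ r ^ 2 ∣ n) (hfree : Free r T) (hsc : Cfsg.Agent.H537.Cop.SC r T)
    {s : T} (hs : orderOf s = r) (NN : Finset (Subgroup T))
    (hNN : ∀ K N : Subgroup T, K ≠ ⊤ → s ∈ K → IsTop T n l r s K N → N ∈ NN) (w : Subgroup T → ℕ)
    (hw : ∀ N ∈ NN, s ∈ N ∧ Nat.card {z : N // orderOf z = r} ≤ w N) (α : MulAut T)
    (hlt : ((r - 1) + ∑ N ∈ NN, (w N - (r - 1))) * r * Nat.card {x : T // α x = x} < n) : GoodA α := by
  classical
  have _ := Fintype.ofFinite T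
  have hr' : Fact r.Prime := ⟨hr⟩
  have h2' : ¬ r ^ 2 ∣ Nat.card T := by rwa [hn]
  -- elements of order `r`
  let S₀ : Finset T := Finset.univ.filter fun z => orderOf z = r ∧ z ∈ zpowers s
  let S : Subgroup T → Finset T := fun N => Finset.univ.filter fun z => orderOf z = r ∧ z ∈ N
  have hcardS : ∀ N : Subgroup T, (S N).card = Nat.card {z : N // orderOf z = r} := by
    intro N
    have e : {z : N // orderOf z = r} ≃ {z : T // orderOf z = r ∧ z ∈ N} :=
      { toFun := fun z => ⟨z.1.1, by rw [Subgroup.orderOf_coe]; exact z.2, z.1.2⟩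
        invFun := fun z => ⟨⟨z.1, z.2.2⟩, by rw [Subgroup.orderOf_mk]; exact z.2.1⟩
        left_inv := fun z => rfl
        right_inv := fun z => rfl }
    rw [Nat.card_congr e, Nat.card_eq_fintype_card, Fintype.card_subtype]
  have hS₀ : S₀.card = r - 1 := by
    have h3 : S₀ = ((zpowers s : Set T).toFinset).erase 1 := by
      ext z
      simp only [S₀, Finset.mem_filter, Finset.mem_univ, true_and, Finset.mem_erase, Set.mem_toFinset, SetLike.mem_coe]
      constructor
      · rintro ⟨hz, hzs⟩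
        refine ⟨?_, hzs⟩
        rintro rfl
        rw [orderOf_one] at hz
        exact hr.one_lt.ne hz
      · rintro ⟨hz, hzs⟩
        refine ⟨?_, hzs⟩
        have h4 := Subgroup.orderOf_dvd_natCard _ hzs
        rw [Nat.card_zpowers, hs] at h4
        rcases (Nat.dvd_prime hr).1 h4 with h5 | h5
        · exact absurd (orderOf_eq_one_iff.1 h5) hz
        · exact h5
    rw [h3, Finset.card_erase_of_mem (by simp [one_mem]), Set.toFinset_card, ← Nat.card_eq_fintype_card]
    congr 1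
    rw [← hs]
    exact Nat.card_zpowers s
  let Z : Finset T := S₀ ∪ NN.biUnion fun N => S N \ S₀
  have hZ : Z.card ≤ (r - 1) + ∑ N ∈ NN, (w N - (r - 1)) := by
    refine (Finset.card_union_le _ _).trans ?_
    rw [hS₀]
    refine Nat.add_le_add_left (Finset.card_biUnion_le.trans (Finset.sum_le_sum fun N hN => ?_)) _
    have hsub : S₀ ⊆ S N := by
      intro z hz
      simp only [S₀, S, Finset.mem_filter, Finset.mem_univ, true_and] at hz ⊢
      refine ⟨hz.1, ?_⟩
      have : zpowers s ≤ N := by rw [zpowers_le]; exact (hw N hN).1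
      exact this hz.2
    rw [Finset.card_sdiff_of_subset hsub, hS₀, hcardS]
    exact Nat.sub_le_sub_right (hw N hN).2 _
  refine goodA_of_set (s := s) Z (fun K hsK hK z hz hzo => ?_) α ?_
  · rw [hs] at hzo
    rw [Finset.mem_union, Finset.mem_biUnion]
    rcases cases tab known hn hv hr h2 hfree hs hK hsK with h3 | ⟨N, hN⟩
    · left
      simp only [S₀, Finset.mem_filter, Finset.mem_univ, true_and]
      refine ⟨hzo, ?_⟩
      refine mem_of_norm hr h2' ?_ hzo (h3 hz)
      rw [Nat.card_zpowers, hs]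
    · by_cases h4 : z ∈ S₀
      · exact Or.inl h4
      · right
        refine ⟨N, hNN K N hK hsK hN, Finset.mem_sdiff.2 ⟨?_, h4⟩⟩
        simp only [S, Finset.mem_filter, Finset.mem_univ, true_and]
        refine ⟨hzo, mem_of_norm hr h2' ?_ hzo (hN.le_norm hz)⟩
        have h5 := Subgroup.orderOf_dvd_natCard _ hN.mem
        rwa [hs] at h5
  · rw [hsc s hs, hn]
    exact lt_of_le_of_lt (Nat.mul_le_mul_right _ (Nat.mul_le_mul_right _ hZ)) hlt

/-- **Only `L₂(r)` at the top.** `c` bounds the number of the subgroups `L₂(r)` which contain `s`. -/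
theorem goodA_of_ltwo {n : ℕ} {l : List (ℕ × ℕ)} (tab : OrderTable.{u}) (known : Known.{u}) (hn : Nat.card T = n)
    (hv : valid l n = true) (hr : r.Prime) (hr3 : 3 < r) (hrn : r ∣ n) (h2 : ¬ r ^ 2 ∣ n) (hfree : Free r T)
    (hsc : Cfsg.Agent.H537.Cop.SC r T) (hsurv : ∀ g ∈ surv n l r [], g = Grp.psl 2 r)
    {c : ℕ}
    (hc : ∀ a t : T, orderOf a = (r - 1) / 2 → t * a * t⁻¹ = a⁻¹ →
      Nat.card (centralizer ({a} : Set T)) ≤ c * ((r - 1) / 2) + ((r - 1) / 2 - 1)) (α : MulAut T)
    (hlt : (r - 1) * (1 + c * r) * r * Nat.card {x : T // α x = x} < n) : GoodA α := by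
  classical
  have hr' : Fact r.Prime := ⟨hr⟩
  have h2' : ¬ r ^ 2 ∣ Nat.card T := by rwa [hn]
  obtain ⟨s, hs⟩ := exists_prime_orderOf_dvd_card' (G := T) r (by rw [hn]; exact hrn)
  have hm1 : 1 < (r - 1) / 2 := by
    have h1 : r ≠ 4 := by rintro rfl; norm_num at hr
    omega
  obtain ⟨m, hm⟩ : ∃ m, r = 2 * m + 1 := hr.odd_of_ne_two (by omega)
  have hm' : (r - 1) / 2 = m := by omega
  have _ := Fintype.ofFinite (Subgroup T)
  set NN : Finset (Subgroup T) := Finset.univ.filter fun N => IsLTwo r s N with hNN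
  have hcard : NN.card ≤ c := by
    rcases ltwo_count hr hr3 h2' hsc hs (NN := NN) (fun N hN => (Finset.mem_filter.1 hN).2) with h | ⟨a, t, ha, -, ht, h⟩
    · rw [h]
      exact Nat.zero_le _
    · have h3 := hc a t ha ht
      rw [hm'] at h3 h hm1
      by_contra h4
      have h5 : (c + 1) * m ≤ NN.card * m := Nat.mul_le_mul_right _ (by omega)
      have h6 : (c + 1) * m = c * m + m := by ring
      omega
  refine goodA_of_tops tab known hn hv hr h2 hfree hsc hs NN (fun K N hK hsK hN => ?_) (fun _ => r ^ 2 - 1)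
    (fun N hN => ?_) α ?_
  · refine Finset.mem_filter.2 ⟨Finset.mem_univ _, hN.mem, ?_⟩
    obtain ⟨g, hg, hgr, -⟩ := hN.real
    rw [hsurv g hg] at hgr
    exact hgr
  · have hN' := (Finset.mem_filter.1 hN).2
    refine ⟨hN'.1, ?_⟩
    -- the order of `N`
    have hcN : Nat.card N = r * (2 * m * (m + 1)) := by
      obtain ⟨-, F, _, _, hF, ⟨e⟩⟩ := hN'
      have h3 := Cfsg.Agent.ClassicalGeometry.PSL2Basic.card_PSL2_odd (F := F) (by rw [hF, hm]; exact ⟨m, rfl⟩)
      rw [← Nat.card_congr e.toEquiv, hF] at h3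
      have h4 : r ^ 2 - 1 = 4 * m * (m + 1) := by
        rw [hm]
        have : (2 * m + 1) ^ 2 = 4 * m * (m + 1) + 1 := by ring
        omega
      rw [h4] at h3
      have h5 : r * (4 * m * (m + 1)) = r * (2 * m * (m + 1)) * 2 := by ring
      omega
    have hmod : (Nat.card N / r) % r = m := by
      rw [hcN, Nat.mul_div_cancel_left _ hr.pos]
      have h3 : 2 * m * (m + 1) = m + r * m := by rw [hm]; ring
      rw [h3, Nat.add_mul_mod_self_left, Nat.mod_eq_of_lt (by omega)]
    have h3 := card_orderOf_mul_le hr (fun h => h2' (h.trans (card_subgroup_dvd_card N))) (by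
      intro h
      rw [hcN] at h
      have h4 : r * (2 * m * (m + 1)) = r * 1 := by rw [h, mul_one]
      have h5 := Nat.eq_of_mul_eq_mul_left hr.pos h4
      have h6 : 2 * m * (m + 1) = 2 * (m * (m + 1)) := by ring
      omega) (sc_sub hr hsc N) (s := ⟨s, hN'.1⟩) (by rw [Subgroup.orderOf_mk, hs])
    rw [hmod, hcN] at h3
    have h4 : r - 1 = 2 * m := by omega
    have h5 : r * (2 * m * (m + 1)) * (r - 1) = (4 * m * (m + 1)) * (r * m) := by rw [h4]; ring
    rw [h5] at h3
    have h6 := Nat.le_of_mul_le_mul_right h3 (Nat.mul_pos hr.pos (by omega))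
    have h7 : r ^ 2 - 1 = 4 * m * (m + 1) := by
      rw [hm]
      have : (2 * m + 1) ^ 2 = 4 * m * (m + 1) + 1 := by ring
      omega
    rw [h7]
    exact h6
  · refine lt_of_le_of_lt ?_ hlt
    rw [Finset.sum_const, smul_eq_mul]
    refine Nat.mul_le_mul_right _ (Nat.mul_le_mul_right _ ?_)
    have h7 : r ^ 2 - 1 - (r - 1) = (r - 1) * r := by
      have h8 : r ^ 2 - 1 = 4 * m * (m + 1) := by
        rw [hm]
        have : (2 * m + 1) ^ 2 = 4 * m * (m + 1) + 1 := by ring
        omega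
      have h9 : r - 1 = 2 * m := by omega
      rw [h8, h9, hm]
      have : 4 * m * (m + 1) = 2 * m * (2 * m + 1) + 2 * m := by ring
      omega
    rw [h7]
    calc (r - 1) + NN.card * ((r - 1) * r) = (r - 1) * (1 + NN.card * r) := by ring
      _ ≤ (r - 1) * (1 + c * r) := Nat.mul_le_mul_left _ (Nat.add_le_add_left (Nat.mul_le_mul_right _ hcard) _)

end

end Cfsg.Agent.H609.TH
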