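import Cfsg.Agent.H609.TH.Expl
import Cfsg.Agent.OrdDiv.Table
import Cfsg.Agent.H94.CopHN
import Cfsg.Agent.NotCT.Orders

/-!
# S3938: no proper subgroup is divisible by `r` and `q` (helper609)

* `not_both` : numerical criterion with the normaliser of a Sylow subgroup of order `r`;
* `hn_not_both` : `HN`, `19` and `11`.
-/

set_option autoImplicit false
set_option maxRecDepth 100000

namespace Cfsg.Agent.H609.TH

open Subgroup Cfsg.Agent.OrdDiv Cfsg.Agent.H257.El

universe u

/-- the check of `not_both` -/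
def chkBoth (n : ℕ) (l : List (ℕ × ℕ)) (r q : ℕ) : Bool :=
  ((r * ((n / r) % r)) % q != 0) && (surv n l r []).all fun g =>
    (((n / r) % r) % ((ordN g / r) % r) != 0) || ((ordN g * ((n / r) % r)) % q != 0)

theorem not_both {T : Type u} [Group T] [Finite T] {n : ℕ} {l : List (ℕ × ℕ)} {r q : ℕ} (tab : OrderTable.{u})
    (known : Known.{u}) (hn : Nat.card T = n) (hr : r.Prime) (hchk : chkN n l r = true) (hfree : Free r T)
    (hsc : Cfsg.Agent.H537.Cop.SC r T) (hb : chkBoth n l r q = true) {K : Subgroup T} (hK : K ≠ ⊤)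
    (hrK : r ∣ Nat.card K) (hqK : q ∣ Nat.card K) : False := by
  obtain ⟨hv, hr3, hrn, h2, hne⟩ := of_chkN hchk
  have hr' : Fact r.Prime := ⟨hr⟩
  obtain ⟨s', hs'⟩ := exists_prime_orderOf_dvd_card' (G := K) r hrK
  have hs : orderOf (s' : T) = r := by rw [Subgroup.orderOf_coe, hs']
  unfold chkBoth at hb
  rw [Bool.and_eq_true, List.all_eq_true] at hb
  obtain ⟨hb1, hb2⟩ := hb
  have h2' : ¬ r ^ 2 ∣ Nat.card T := by rwa [hn]
  have hne' : Nat.card T ≠ r := by rwa [hn]
  rcases cases tab known hn hv hr h2 hfree hs hK s'.2 with h | ⟨N, hN⟩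
  · have h3 := (card_norm_mod hr h2' hne' (hsc _ hs)).1
    rw [hn] at h3
    have h4 := hqK.trans (card_dvd_of_le h)
    rw [h3] at h4
    rw [Nat.mod_eq_zero_of_dvd h4] at hb1
    exact absurd hb1 (by decide)
  · obtain ⟨g, hg, -, hgN⟩ := hN.real
    obtain ⟨h3, h4⟩ := hN.index_mul_dvd hr h2' hne' hsc hs
    rw [hn, hgN] at h3 h4
    have h5 := hb2 g hg
    rw [Bool.or_eq_true] at h5
    rcases h5 with h5 | h5
    · rw [Nat.mod_eq_zero_of_dvd (dvd_of_mul_left_dvd h4)] at h5
      exact absurd h5 (by decide)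
    · rw [Nat.mod_eq_zero_of_dvd (hqK.trans h3)] at h5
      exact absurd h5 (by decide)

/-! ### `HN` -/

theorem chk_hn : chkN 273030912000000 [(2, 14), (3, 6), (5, 6), (7, 1), (11, 1), (19, 1)] 19 = true := by decide +kernel

theorem ok_hn : okAll [(2, 14), (3, 6), (5, 6), (7, 1), (11, 1), (19, 1)] 19 = true := by decide +kernel

theorem both_hn : chkBoth 273030912000000 [(2, 14), (3, 6), (5, 6), (7, 1), (11, 1), (19, 1)] 19 11 = true := by
  decide +kernel

/-- no proper subgroup of `HN` is divisible by 19 and 11 -/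
theorem hn_not_both (known : Known.{0}) {K : Subgroup Spor.HN} (hK : K ≠ ⊤) (h19 : 19 ∣ Nat.card K)
    (h11 : 11 ∣ Nat.card K) : False := by
  have hfin : Finite Spor.HN := KFacts.HN.finite_HN
  have hc : Nat.card Spor.HN = 273030912000000 := NotCT.Orders.hn ⟨MulEquiv.refl _⟩
  exact not_both table known hc (by norm_num) chk_hn
    (free_of_sc hc (of_chkN chk_hn).1 (by norm_num) H94.CopHN.sc_nineteen ok_hn) H94.CopHN.sc_nineteen both_hn hK h19 h11

end Cfsg.Agent.H609.TH
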