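import Cfsg.Agent.H609.TH.Pairs
import Cfsg.Agent.H981.SCTh
import Cfsg.Agent.H602.SprThA

/-!
# S3938: no proper subgroup of `Th` is divisible by 19 and by 13 or 31 (helper609)
-/

set_option autoImplicit false
set_option maxRecDepth 100000

namespace Cfsg.Agent.H609.TH

open Subgroup Cfsg.Agent.OrdDiv Cfsg.Agent.H257.El

theorem chk_th : chkN 90745943887872000 [(2, 15), (3, 10), (5, 3), (7, 2), (13, 1), (19, 1), (31, 1)] 19 = true := by
  decide +kernel

theorem ok_th : okAll [(2, 15), (3, 10), (5, 3), (7, 2), (13, 1), (19, 1), (31, 1)] 19 = true := by decide +kernel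

theorem both_th13 : chkBoth 90745943887872000 [(2, 15), (3, 10), (5, 3), (7, 2), (13, 1), (19, 1), (31, 1)] 19 13 = true := by
  decide +kernel

theorem both_th31 : chkBoth 90745943887872000 [(2, 15), (3, 10), (5, 3), (7, 2), (13, 1), (19, 1), (31, 1)] 19 31 = true := by
  decide +kernel

theorem th_tops (known : Known.{0}) : H602.SprTh.Tops := by
  intro K hK h19 h
  have hfin : Finite Spor.Th := KFacts.Th.Main.finite
  have hc : Nat.card Spor.Th = 90745943887872000 := KFacts.Th.Main.ctx.card
  have hsc := H981.SCTh.sc_th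
  have hfree : Free 19 Spor.Th := free_of_sc hc (of_chkN chk_th).1 (by norm_num) hsc ok_th
  rcases h with h | h
  · exact not_both table known hc (by norm_num) chk_th hfree hsc both_th13 hK h19 h
  · exact not_both table known hc (by norm_num) chk_th hfree hsc both_th31 hK h19 h

end Cfsg.Agent.H609.TH
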