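import Cfsg.Agent.H609.TH.Base

/-!
# S3938: the row of a simple group `X` from statements on `X` and its automorphisms (helper609)

* `GoodI g` : `⟨x, g⟩ = X` for some `x`;
* `GoodA α` : for some `x ∈ X` no proper `α`-invariant subgroup contains `x`;
* `row_of_parts`, `row_of_inner` (`|Out X| = 1`), `row_of_two` (`|Out X| ≤ 2`);
* `row_of_uniq` : an element with a unique maximal overgroup.
* `goodA_of_set` : counting.
-/

set_option autoImplicit false

namespace Cfsg.Agent.H609.TH

open Subgroup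

universe u

section

variable {X : Type u} [Group X]

/-- an inner automorphism -/
def GoodI (g : X) : Prop := ∃ x : X, closure ({x, g} : Set X) = ⊤

/-- an automorphism -/
def GoodA (α : MulAut X) : Prop := ∃ x : X, ∀ K : Subgroup X, x ∈ K → (∀ y ∈ K, α y ∈ K) → K = ⊤

/-- an element with one maximal overgroup -/
def Uniq (X : Type u) [Group X] : Prop :=
  ∃ s : X, s ≠ 1 ∧ ∃ M : Subgroup X, M ≠ ⊤ ∧ ∀ K : Subgroup X, s ∈ K → K ≠ ⊤ → K ≤ M

end

section

variable {X : Type u} [Group X] {G : Type u} [Group G] {L : Subgroup G} [hL : L.Normal]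

/-- the automorphism of `X` -/
def aut (e : L ≃* X) (g : G) : MulAut X := (e.symm.trans (MulAut.conjNormal (H := L) g)).trans e

theorem aut_apply (e : L ≃* X) (g : G) (y : X) : ((e.symm (aut e g y) : L) : G) = g * (e.symm y : L) * g⁻¹ := by
  have h1 : aut e g y = e (MulAut.conjNormal g (e.symm y)) := rfl
  rw [h1, e.symm_apply_apply, MulAut.conjNormal_apply]

theorem aut_mul (e : L ≃* X) (g h : G) : aut e (g * h) = aut e g * aut e h := by
  ext y
  change e (MulAut.conjNormal (g * h) (e.symm y)) = e (MulAut.conjNormal g (e.symm (e (MulAut.conjNormal h (e.symm y)))))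
  rw [e.symm_apply_apply, map_mul, MulAut.mul_apply]

/-- the homomorphism -/
def autHom (e : L ≃* X) : G →* MulAut X := MonoidHom.mk' (aut e) (aut_mul e)

theorem autHom_injective (e : L ≃* X) (hc : centralizer (L : Set G) = ⊥) : Function.Injective (autHom e) := by
  rw [injective_iff_map_eq_one]
  intro g hg
  have h1 : g ∈ centralizer (L : Set G) := by
    rw [mem_centralizer_iff]
    intro y hy
    have h2 := aut_apply e g (e ⟨y, hy⟩)
    have h3 : aut e g (e ⟨y, hy⟩) = e ⟨y, hy⟩ := by
      have h4 : aut e g = 1 := hg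
      rw [h4]
      rfl
    rw [h3, e.symm_apply_apply] at h2
    have h4 : y = g * y * g⁻¹ := h2
    calc y * g = g * y * g⁻¹ * g := by rw [← h4]
      _ = g * y := by group
  rwa [hc, mem_bot] at h1

omit hL in
theorem good_of_goodI (e : L ≃* X) {g : G} (hg : g ∈ L) (h : GoodI (e ⟨g, hg⟩)) : Good L g := by
  obtain ⟨x, hx⟩ := h
  refine ⟨(e.symm x : L), fun y hy => ?_⟩
  have h1 : e ⟨y, hy⟩ ∈ closure ({x, e ⟨g, hg⟩} : Set X) := by rw [hx]; exact mem_top _
  have h2 : closure ({x, e ⟨g, hg⟩} : Set X) ≤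
      (closure ({((e.symm x : L) : G), g} : Set G)).comap (L.subtype.comp e.symm.toMonoidHom) := by
    rw [closure_le]
    rintro z (rfl | rfl)
    · exact Subgroup.subset_closure (Or.inl rfl)
    · refine Subgroup.subset_closure (Or.inr ?_)
      change ((e.symm (e ⟨g, hg⟩) : L) : G) = g
      rw [e.symm_apply_apply]
  have h3 := h2 h1
  rw [mem_comap] at h3
  have h4 : (L.subtype.comp e.symm.toMonoidHom) (e ⟨y, hy⟩) = y := by
    change ((e.symm (e ⟨y, hy⟩) : L) : G) = y
    rw [e.symm_apply_apply]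
  rwa [h4] at h3

theorem good_of_goodA (e : L ≃* X) {g : G} (h : GoodA (aut e g)) : Good L g := by
  obtain ⟨x, hx⟩ := h
  refine ⟨(e.symm x : L), fun y hy => ?_⟩
  set C := closure ({((e.symm x : L) : G), g} : Set G) with hC
  have hg : g ∈ C := Subgroup.subset_closure (Or.inr rfl)
  have h1 := hx (C.comap (L.subtype.comp e.symm.toMonoidHom)) (Subgroup.subset_closure (Or.inl rfl)) (by
    intro z hz
    change ((e.symm (aut e g z) : L) : G) ∈ C
    rw [aut_apply]
    exact mul_mem (mul_mem hg hz) (inv_mem hg))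
  have h2 : e ⟨y, hy⟩ ∈ C.comap (L.subtype.comp e.symm.toMonoidHom) := by rw [h1]; exact mem_top _
  change ((e.symm (e ⟨y, hy⟩) : L) : G) ∈ C at h2
  rwa [e.symm_apply_apply] at h2

end

/-- **The row from its parts.** -/
theorem row_of_parts {X : Type u} [Group X] (hI : ∀ g : X, (orderOf g).Prime → GoodI g)
    (hO : ∀ α : MulAut X, (orderOf α).Prime → (∀ g : X, α ≠ MulAut.conj g) → GoodA α) : Row32 X := by
  refine row_of_prime fun G _ _ L _ ⟨e⟩ hc g hg => ?_
  by_cases hin : ∃ h : X, aut e g = MulAut.conj h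
  · -- `g ∈ L`
    obtain ⟨h, hh⟩ := hin
    have h1 : autHom e g = autHom e (e.symm h : L) := by
      change aut e g = aut e ((e.symm h : L) : G)
      rw [hh]
      ext y
      apply e.symm.injective
      apply Subtype.ext
      rw [aut_apply, MulAut.conj_apply, map_mul, map_mul, map_inv]
      rfl
    have h2 := autHom_injective e hc h1
    have hgL : g ∈ L := by
      rw [h2]
      exact (e.symm h).2
    refine good_of_goodI e hgL (hI _ ?_)
    rw [MulEquiv.orderOf_eq, Subgroup.orderOf_mk]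
    exact hg
  · refine good_of_goodA e (hO _ ?_ fun h hh => hin ⟨h, hh⟩)
    have h1 : orderOf (autHom e g) = orderOf g := orderOf_injective _ (autHom_injective e hc) g
    change (orderOf (autHom e g)).Prime
    rw [h1]
    exact hg

/-- all the automorphisms are inner -/
theorem row_of_inner {X : Type u} [Group X] (hI : ∀ g : X, (orderOf g).Prime → GoodI g)
    (hout : ∀ α : MulAut X, ∃ g : X, α = MulAut.conj g) : Row32 X :=
  row_of_parts hI fun α _ h => absurd (hout α) (fun ⟨g, hg⟩ => h g hg)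

/-- the outer automorphisms are of order two modulo the inner ones -/
theorem row_of_two {X : Type u} [Group X] (hI : ∀ g : X, (orderOf g).Prime → GoodI g)
    (hout : ∀ α : MulAut X, ∃ g : X, α * α = MulAut.conj g)
    (hO : ∀ α : MulAut X, α * α = 1 → (∀ g : X, α ≠ MulAut.conj g) → GoodA α) : Row32 X := by
  refine row_of_parts hI fun α hα hne => ?_
  by_cases h2 : orderOf α = 2
  · refine hO α ?_ hne
    rw [← pow_two, ← h2]
    exact pow_orderOf_eq_one α
  · exfalso
    have hodd : Odd (orderOf α) := hα.odd_of_ne_two h2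
    obtain ⟨k, hk⟩ := hodd
    obtain ⟨g, hg⟩ := hout α
    apply hne (g ^ (k + 1))
    rw [map_pow, ← hg]
    have h1 := pow_orderOf_eq_one α
    rw [hk] at h1
    calc α = α ^ (2 * k + 1) * α := by rw [h1, one_mul]
      _ = (α * α) ^ (k + 1) := by
          rw [← pow_two, ← pow_mul, ← pow_succ]
          congr 1

/-- **One maximal overgroup.** -/
theorem row_of_uniq {X : Type u} [Group X] [IsSimpleGroup X] (h : Uniq X) : Row32 X := by
  intro G _ _ L _ ⟨e⟩ hc g hg
  obtain ⟨s, hs1, M, hM, hK⟩ := h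
  have : Nontrivial L := e.toEquiv.nontrivial
  have : IsSimpleGroup L := IsSimpleGroup.isSimpleGroup_of_surjective e.symm.toMonoidHom e.symm.surjective
  refine of_unique (M := (M.comap e.toMonoidHom).map L.subtype) hc (e.symm s).2 (fun h1 => hs1 ?_) (fun h1 => hM ?_)
    (fun H hH hsH hne => ?_) hg
  · have h2 : e.symm s = 1 := Subtype.ext h1
    rw [← map_one e.symm] at h2
    exact e.symm.injective h2
  · rw [eq_top_iff]
    intro y _
    obtain ⟨z, hz, hzy⟩ := h1 (e.symm y).2
    have h2 : z = e.symm y := Subtype.ext hzy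
    subst h2
    have h3 : e (e.symm y) ∈ M := hz
    rwa [e.apply_symm_apply] at h3
  · have h1 := hK ((H.subgroupOf L).map e.toMonoidHom) ⟨e.symm s, mem_subgroupOf.2 hsH, e.apply_symm_apply s⟩ (by
      intro h2
      apply hne
      refine le_antisymm hH fun y hy => ?_
      have h3 : e ⟨y, hy⟩ ∈ (H.subgroupOf L).map e.toMonoidHom := by rw [h2]; exact mem_top _
      obtain ⟨z, hz, hzy⟩ := h3
      have h4 : z = ⟨y, hy⟩ := e.injective hzy
      subst h4
      exact mem_subgroupOf.1 hz)
    intro y hy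
    exact ⟨⟨y, hH hy⟩, h1 ⟨⟨y, hH hy⟩, mem_subgroupOf.2 hy, rfl⟩, rfl⟩

/-! ### Counting -/

section

variable {X : Type u} [Group X] [Finite X]

/-- **Counting the bad conjugates of an automorphism.** `Z` contains the elements of order `|s|` of the proper subgroups
which contain `s`. -/
theorem goodA_of_set {s : X} (Z : Finset X)
    (h : ∀ K : Subgroup X, s ∈ K → K ≠ ⊤ → ∀ z ∈ K, orderOf z = orderOf s → z ∈ Z)
    (α : MulAut X) (hlt : Z.card * Nat.card (centralizer ({s} : Set X)) * Nat.card {x : X // α x = x} < Nat.card X) :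
    GoodA α := by
  classical
  by_contra hbad
  have _ := Fintype.ofFinite X
  -- `u ∈ X` : the conjugate `β = conj u * α * conj u⁻¹` maps `s` into `Z`
  have key : ∀ u : X, u * α (u⁻¹ * s * u) * u⁻¹ ∈ Z := by
    intro u
    by_contra hno
    apply hbad
    refine ⟨u⁻¹ * s * u, fun K hsK hαK => ?_⟩
    by_contra hne
    set K₁ : Subgroup X := K.map (MulAut.conj u).toMonoidHom with hK₁
    apply hno
    refine h K₁ ⟨u⁻¹ * s * u, hsK, by
      change u * (u⁻¹ * s * u) * u⁻¹ = s
      group⟩ (by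
      intro h1
      apply hne
      rw [eq_top_iff]
      intro y _
      have h2 : u * y * u⁻¹ ∈ K₁ := by rw [h1]; exact mem_top _
      obtain ⟨z, hz, hzy⟩ := h2
      have h3 : z = y := (MulAut.conj u).injective hzy
      rwa [← h3]) _ ⟨α (u⁻¹ * s * u), hαK _ hsK, rfl⟩ ?_
    have h1 : u * α (u⁻¹ * s * u) * u⁻¹ = (MulAut.conj u * α * MulAut.conj u⁻¹) s := by
      change u * α (u⁻¹ * s * u) * u⁻¹ = u * (α (u⁻¹ * s * u⁻¹⁻¹)) * u⁻¹
      rw [inv_inv]
    rw [h1]
    exact orderOf_injective (MulAut.conj u * α * MulAut.conj u⁻¹ : MulAut X).toMonoidHom (MulEquiv.injective _) s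
  -- count the `u`
  let f : X → X := fun u => u * α (u⁻¹ * s * u) * u⁻¹
  have hfib : ∀ z : X, Nat.card {u : X // f u = z} ≤ Nat.card (centralizer ({s} : Set X)) * Nat.card {x : X // α x = x} := by
    intro z
    -- `u ↦ w u = u * α u⁻¹`, then `f u = w u * α s * (w u)⁻¹`
    have hf : ∀ u : X, f u = (u * α u⁻¹) * α s * (u * α u⁻¹)⁻¹ := by
      intro u
      change u * α (u⁻¹ * s * u) * u⁻¹ = _
      rw [map_mul, map_mul, map_inv]
      group
    let e : {u : X // f u = z} → Σ w : {w : X // w * α s * w⁻¹ = z}, {u : X // u * α u⁻¹ = w.1} :=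
      fun u => ⟨⟨u.1 * α u.1⁻¹, by rw [← hf]; exact u.2⟩, ⟨u.1, rfl⟩⟩
    have he : Function.Injective e := fun u u' huu => Subtype.ext (congrArg (fun p => p.2.1) huu)
    refine (Nat.card_le_card_of_injective e he).trans ?_
    rw [Nat.card_sigma]
    have h1 : ∀ w : {w : X // w * α s * w⁻¹ = z}, Nat.card {u : X // u * α u⁻¹ = w.1} ≤ Nat.card {x : X // α x = x} := by
      intro w
      rcases isEmpty_or_nonempty {u : X // u * α u⁻¹ = w.1} with hE | ⟨⟨u₀, hu₀⟩⟩
      · rw [Nat.card_of_isEmpty]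
        exact Nat.zero_le _
      · refine Nat.card_le_card_of_injective (fun u => ⟨u₀⁻¹ * u.1, ?_⟩) ?_
        · have h2 : u.1 * (α u.1)⁻¹ = u₀ * (α u₀)⁻¹ := by
            rw [← map_inv, ← map_inv, u.2, hu₀]
          rw [map_mul, map_inv]
          calc (α u₀)⁻¹ * α u.1 = u₀⁻¹ * (u₀ * (α u₀)⁻¹) * α u.1 := by group
            _ = u₀⁻¹ * u.1 := by rw [← h2]; group
        · intro u u' huu
          exact Subtype.ext (mul_left_cancel (congrArg Subtype.val huu))
    have h3 : Nat.card {w : X // w * α s * w⁻¹ = z} ≤ Nat.card (centralizer ({s} : Set X)) := by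
      rcases isEmpty_or_nonempty {w : X // w * α s * w⁻¹ = z} with hE | ⟨⟨w₀, hw₀⟩⟩
      · rw [Nat.card_of_isEmpty]
        exact Nat.zero_le _
      · refine Nat.card_le_card_of_injective (fun w => ⟨α.symm (w₀⁻¹ * w.1), ?_⟩) ?_
        · rw [mem_centralizer_singleton_iff]
          apply α.injective
          have h4 : α (α.symm (w₀⁻¹ * w.1)) = w₀⁻¹ * w.1 := α.apply_symm_apply _
          rw [map_mul α (α.symm (w₀⁻¹ * w.1)) s, map_mul α s (α.symm (w₀⁻¹ * w.1)), h4]
          have h5 : w.1 * α s * w.1⁻¹ = w₀ * α s * w₀⁻¹ := by rw [w.2, hw₀]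
          calc w₀⁻¹ * w.1 * α s = w₀⁻¹ * (w.1 * α s * w.1⁻¹) * w.1 := by group
            _ = α s * (w₀⁻¹ * w.1) := by rw [h5]; group
        · intro w w' hww
          have h4 : α.symm (w₀⁻¹ * w.1) = α.symm (w₀⁻¹ * w'.1) := congrArg Subtype.val hww
          exact Subtype.ext (mul_left_cancel (α.symm.injective h4))
    calc ∑ w, Nat.card {u : X // u * α u⁻¹ = w.1}
        ≤ ∑ _w : {w : X // w * α s * w⁻¹ = z}, Nat.card {x : X // α x = x} := Finset.sum_le_sum fun w _ => h1 w
      _ = Nat.card {w : X // w * α s * w⁻¹ = z} * Nat.card {x : X // α x = x} := by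
          rw [Finset.sum_const, smul_eq_mul, Finset.card_univ, ← Nat.card_eq_fintype_card]
      _ ≤ _ := Nat.mul_le_mul_right _ h3
  apply absurd hlt
  rw [not_lt]
  have hmap : ∀ u ∈ (Finset.univ : Finset X), f u ∈ Z := fun u _ => key u
  have hcount := Finset.card_le_mul_card_image_of_maps_to hmap (Nat.card (centralizer ({s} : Set X)) * Nat.card {x : X // α x = x})
    (by
      intro z _
      refine le_trans (le_of_eq ?_) (hfib z)
      rw [Nat.card_eq_fintype_card, Fintype.card_subtype])
  rw [Finset.card_univ, ← Nat.card_eq_fintype_card] at hcount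
  calc Nat.card X ≤ Nat.card (centralizer ({s} : Set X)) * Nat.card {x : X // α x = x} * Z.card := hcount
    _ = _ := by ring

omit [Finite X] in
/-- an automorphism which is inner -/
theorem goodI_of_goodA {g : X} (h : GoodA (MulAut.conj g)) : GoodI g := by
  obtain ⟨x, hx⟩ := h
  refine ⟨x, hx _ (Subgroup.subset_closure (Or.inl rfl)) fun y hy => ?_⟩
  have hg : g ∈ closure ({x, g} : Set X) := Subgroup.subset_closure (Or.inr rfl)
  rw [MulAut.conj_apply]
  exact mul_mem (mul_mem hg hy) (inv_mem hg)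

end

end Cfsg.Agent.H609.TH
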