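import Cfsg.Agent.H862.Spr.Rows
import Cfsg.Agent.H609.TH.Easy
import Cfsg.Agent.H248.SprJ4
import Cfsg.Agent.H486.SprM22
import Cfsg.Agent.H161.SprM24
import Cfsg.Agent.H602.SprM12
import Cfsg.Agent.H446.SprRu
import Cfsg.Agent.H315.Spr.SprCo3
import Cfsg.Agent.H435.SprCo2
import Cfsg.Agent.H447.SprFi23
import Cfsg.Agent.H867.SprFi22
import Cfsg.Agent.H109.SprJ2
import Cfsg.Agent.H299.SprJ3
import Cfsg.Agent.H991.SprMcL
import Cfsg.Agent.H767.SprHS
import Cfsg.Agent.H602.SprSuz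
import Cfsg.Agent.H328.SprHe
import Cfsg.Agent.H446.SprON
import Cfsg.Agent.H849.SprM
import Cfsg.Agent.H248.SprB
import Cfsg.Agent.H305.SprCo1
import Cfsg.Agent.H602.SprTh
import Cfsg.Agent.H305.SprFi24
import Cfsg.Agent.H315.Spr.HNFin
import Cfsg.Agent.H546.SH.Outer

/-!
# S3938 (3/2-generation): the rows of the 26 sporadic groups (helper609)

The rows are by helpers 109 (`J₂`), 161 (`M₂₄`), 248 (`J₄`, `B`), 299 (`J₃`), 305 (`Co₁`, `Fi₂₄'`), 315 (`Co₃`, `HN`),
328 (`He`, `Th`), 435 (`Co₂`), 446 (`Ru`, `O'N`), 447 (`Fi₂₃`), 486 (`M₂₂`), 495 (`Th`), 546 (`HN`), 602 (`M₁₂`, `Suz`, `Th`),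
609 (`M₁₁`, `M₂₃`, `J₁`, `Ly`), 767 (`HS`), 849 (`M`), 867 (`Fi₂₂`), 991 (`McL`).
-/

set_option autoImplicit false

namespace Cfsg.Agent.H609.TH

open Cfsg.Agent.H257.El Cfsg.Agent.H424.Spr

/-- **The sporadic rows of S3938.** -/
theorem sprSpor (known : Known.{0}) : H862.Spr.SprSpor where
  m11 := fun h => spr_m11 known h
  m12 := fun h => H602.SprM12.spr_m12 known h
  m22 := fun h => H486.SprM22.spr_m22 known h
  m23 := fun h => spr_m23 known h
  m24 := fun h => H161.SprM24.spr_m24 known h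
  j1 := fun h => spr_j1 known h
  j2 := fun h => H109.SprJ2.spr_j2 known h
  j3 := fun h => H299.SprJ3.spr_j3 known h
  j4 := fun h => H248.SprJ4.spr_j4 known h
  co1 := fun h => H305.SprCo1.spr_co1 known h
  co2 := fun h => H435.SprCo2.spr_co2 known h
  co3 := fun h => H315.Spr.Co3.spr_co3 known h
  mcl := fun h => H991.SprMcL.spr_mcl known h
  hs := fun h => H767.SprHS.spr_hs known h
  suz := fun h => H602.SprSuz.spr_suz known h
  he := fun h => H328.SprHe.spr_he known h
  ru := fun h => H446.SprRu.spr_ru known h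
  on := fun h => H446.SprON.spr_on known h
  ly := fun h => spr_ly known h
  fi22 := fun h => H867.SprFi22.spr_fi22 h
  fi23 := fun h => H447.SprFi23.spr_fi23 known h
  fi24 := fun h => H305.SprFi24.spr_fi24 known h
  hn := fun h => H315.SpHN.spr_of_outer known (H546.SH.hn_outer known) h
  th := fun h => H602.SprTh.spr_th known h
  b := fun h => H248.SprB.spr_b known h
  m := fun h => H849.SprM.spr_m known h

end Cfsg.Agent.H609.TH
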